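import Cfsg.Agent.H141.Ore.Sum

/-!
# Scalars and dimension two (helper141, S2444)
-/

set_option autoImplicit false
set_option linter.unusedSectionVars false

namespace Cfsg.Agent.H141.Ore

open Module Polynomial

universe u w

section Criterion

variable {F : Type*} [Field F] {V : Type*} [AddCommGroup V] [Module F V] [FiniteDimensional F V]

theorem isComm_of_end (S X D : Module.End F V) (hX : LinearMap.det X = 1)
    (hD : LinearMap.det D = 1) (h : ∀ z, X (D z) = S (D (X z))) : IsComm S := by
  have uX : IsUnit (LinearMap.det X) := by rw [hX]; exact isUnit_one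
  have uD : IsUnit (LinearMap.det D) := by rw [hD]; exact isUnit_one
  refine ⟨LinearMap.equivOfIsUnitDet uX, LinearMap.equivOfIsUnitDet uD, ?_, ?_, ?_⟩
  · rw [LinearMap.coe_equivOfIsUnitDet, hX]
  · rw [LinearMap.coe_equivOfIsUnitDet, hD]
  · intro x
    obtain ⟨y, rfl⟩ := (LinearMap.equivOfIsUnitDet uD).surjective x
    obtain ⟨z, rfl⟩ := (LinearMap.equivOfIsUnitDet uX).surjective y
    rw [LinearEquiv.symm_apply_apply, LinearEquiv.symm_apply_apply]
    simp only [LinearMap.equivOfIsUnitDet_apply]
    exact (h z).symm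

end Criterion

section Shift

variable {F : Type*} [Field F] {W : Type*} [AddCommGroup W] [Module F W] [FiniteDimensional F W]
  (k : ℕ)

/-- the cyclic shift -/
def shift (F W : Type*) [Field F] [AddCommGroup W] [Module F W] (k : ℕ) :
    Module.End F (Fin (k + 1) → W) := LinearMap.funLeft F W (fun i => i - 1)

theorem shift_apply (f : Fin (k + 1) → W) (i : Fin (k + 1)) : shift F W k f i = f (i - 1) := rfl

theorem det_shift_sq : LinearMap.det (shift F W k) ^ 2 = 1 := by
  set ρ : Module.End F (Fin (k + 1) → W) := LinearMap.funLeft F W (fun i => -i) with hρ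
  have h1 : ρ ∘ₗ ρ = LinearMap.id := by
    apply LinearMap.ext; intro f; funext i
    simp [hρ, LinearMap.funLeft_apply]
  have h2 : shift F W k ∘ₗ (ρ ∘ₗ shift F W k ∘ₗ ρ) = LinearMap.id := by
    apply LinearMap.ext; intro f; funext i
    simp only [LinearMap.comp_apply, LinearMap.id_apply, shift_apply, hρ, LinearMap.funLeft_apply]
    congr 1
    abel
  have h3 := congrArg LinearMap.det h1
  have h4 := congrArg LinearMap.det h2
  simp only [LinearMap.det_comp, LinearMap.det_id] at h3 h4
  calc LinearMap.det (shift F W k) ^ 2 = LinearMap.det (shift F W k) *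
        (LinearMap.det ρ * (LinearMap.det (shift F W k) * LinearMap.det ρ)) := by
          linear_combination (-(LinearMap.det (shift F W k)) ^ 2) * h3
    _ = 1 := h4

theorem shift_pow (n : ℕ) (f : Fin (k + 1) → W) (i : Fin (k + 1)) :
    (shift F W k ^ n) f i = f (i - n • (1 : Fin (k + 1))) := by
  induction n generalizing i with
  | zero => simp
  | succ n ih =>
    rw [pow_succ', Module.End.mul_apply, shift_apply, ih, succ_nsmul]
    congr 1
    abel

theorem det_shift_odd (hk : Even k) : LinearMap.det (shift F F k) = 1 := by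
  have h1 := det_shift_sq (F := F) (W := F) k
  have h2 : (shift F F k) ^ (k + 1) = 1 := by
    apply LinearMap.ext; intro f; funext i
    rw [shift_pow]
    have h0 : (k + 1) • (1 : Fin (k + 1)) = 0 := by
      have := card_nsmul_eq_zero (G := Fin (k + 1)) (x := 1)
      rwa [Fintype.card_fin] at this
    rw [h0, sub_zero]; rfl
  have h3 := congrArg LinearMap.det h2
  rw [map_pow, map_one] at h3
  obtain ⟨j, hj⟩ := hk
  rw [pow_succ] at h3
  have h4 : ∀ d : F, d ^ 2 = 1 → d ^ k = 1 := by
    intro d hd
    rw [hj, ← two_mul, pow_mul, hd, one_pow]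
  rw [h4 _ h1, one_mul] at h3
  exact h3

theorem det_shift_two : LinearMap.det (shift F (Fin 2 → F) k) = 1 := by
  let e : (Fin 2 → (Fin (k + 1) → F)) ≃ₗ[F] (Fin (k + 1) → (Fin 2 → F)) :=
    { toFun := fun f i j => f j i
      invFun := fun f i j => f j i
      left_inv := fun f => rfl
      right_inv := fun f => rfl
      map_add' := fun f g => rfl
      map_smul' := fun a f => rfl }
  have h1 : shift F (Fin 2 → F) k = (e : _ →ₗ[F] _) ∘ₗ
      (LinearMap.pi fun j : Fin 2 => (shift F F k).comp (LinearMap.proj j)) ∘ₗ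
      (e.symm : _ →ₗ[F] _) := by
    apply LinearMap.ext; intro f; funext i j
    rfl
  rw [h1, LinearMap.det_conj, LinearMap.det_pi, Fin.prod_univ_two, ← pow_two]
  exact det_shift_sq k

theorem sum_fin_val : ∑ i : Fin (k + 1), (i : ℕ) = k * (k + 1) / 2 := by
  rw [Fin.sum_univ_eq_sum_range (fun i => i) (k + 1), Finset.sum_range_id]
  simp [mul_comm]

theorem isComm_scalar_construct (K T : Module.End F W) (a : F)
    (hKT : ∀ w, T (K w) = a ^ (k + 1) • K (T w))
    (hP : LinearMap.det (shift F W k) = 1) (hK : LinearMap.det K = 1)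
    (hX : a ^ (finrank F W * (k * (k + 1) / 2)) * LinearMap.det T ^ (k + 1) = 1)
    (S : Module.End F (Fin (k + 1) → W)) (hS : ∀ x, S x = a • x) : IsComm S := by
  let X : Module.End F (Fin (k + 1) → W) :=
    LinearMap.pi fun i : Fin (k + 1) => (a ^ (i : ℕ) • T).comp (LinearMap.proj i)
  let D₀ : Module.End F (Fin (k + 1) → W) :=
    LinearMap.pi fun i : Fin (k + 1) => (if i = 0 then K else LinearMap.id).comp (LinearMap.proj i)
  refine isComm_of_end S X (D₀ ∘ₗ shift F W k) ?_ ?_ ?_
  · rw [LinearMap.det_pi]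
    simp only [LinearMap.det_smul]
    rw [Finset.prod_mul_distrib, Finset.prod_const, Finset.card_univ, Fintype.card_fin]
    have : ∏ i : Fin (k + 1), (a ^ (i : ℕ)) ^ finrank F W = a ^ (finrank F W * (k * (k + 1) / 2)) := by
      simp only [← pow_mul]
      rw [Finset.prod_pow_eq_pow_sum, ← Finset.sum_mul, sum_fin_val, mul_comm]
    rw [this, hX]
  · rw [LinearMap.det_comp, hP, mul_one, LinearMap.det_pi]
    have : ∀ i : Fin (k + 1), LinearMap.det (if i = 0 then K else LinearMap.id) = 1 := by
      intro i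
      split_ifs
      · exact hK
      · exact LinearMap.det_id
    simp only [this, Finset.prod_const_one]
  · intro z
    rw [hS]
    funext i
    simp only [X, D₀, LinearMap.comp_apply, LinearMap.pi_apply, LinearMap.proj_apply,
      LinearMap.smul_apply, shift_apply, Pi.smul_apply]
    by_cases hi : i = 0
    · subst hi
      have h1 : ((0 - 1 : Fin (k + 1)) : ℕ) = k := by
        rw [Fin.coe_sub_one]; simp
      rw [if_pos rfl, hKT, h1]
      simp only [Fin.val_zero, pow_zero, map_smul, smul_smul]
      rw [one_mul, ← pow_succ']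
    · have h1 : ((i - 1 : Fin (k + 1)) : ℕ) = (i : ℕ) - 1 := by
        rw [Fin.coe_sub_one, if_neg hi]
      have h2 : 0 < (i : ℕ) := Fin.pos_iff_ne_zero.2 hi
      obtain ⟨j, hj⟩ : ∃ j, (i : ℕ) = j + 1 := ⟨(i : ℕ) - 1, by omega⟩
      rw [if_neg hi, h1, hj]
      simp only [LinearMap.id_apply, Nat.add_sub_cancel, smul_smul]
      rw [← pow_succ']

end Shift

section Main

variable {F : Type*} [Field F] [Finite F] {V : Type*} [AddCommGroup V] [Module F V]
  [FiniteDimensional F V]

theorem pow_triangle (a : F) (k : ℕ) : a ^ (2 * (k * (k + 1) / 2)) = (a ^ (k + 1)) ^ k := by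
  have h : 2 * (k * (k + 1) / 2) = (k + 1) * k := by
    rw [Nat.mul_div_cancel' (Nat.even_mul_succ_self k).two_dvd, mul_comm]
  rw [h, pow_mul]

theorem isComm_scalar (hk : 1 ≤ finrank F V) (S : Module.End F V) (a : F) (hS : ∀ x, S x = a • x)
    (hdet : LinearMap.det S = 1) : IsComm S := by
  have hdet' : a ^ finrank F V = 1 := by rw [← (det_scalar S a hS).1, hdet]
  rcases Nat.even_or_odd (finrank F V) with he | ho
  · obtain ⟨m, hm⟩ := he
    obtain ⟨k, rfl⟩ : ∃ k, m = k + 1 := ⟨m - 1, by omega⟩
    have hdim : finrank F V = finrank F (Fin (k + 1) → (Fin 2 → F)) := by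
      rw [Module.finrank_pi_fintype]
      simp [hm]
      ring
    let e : (Fin (k + 1) → (Fin 2 → F)) ≃ₗ[F] V := (LinearEquiv.ofFinrankEq _ _ hdim).symm
    refine IsComm.congr e (a • LinearMap.id) S (fun x => by rw [hS]; simp) ?_
    have hsq : (a ^ (k + 1)) ^ 2 = 1 := by
      rw [← pow_mul, mul_two, ← hm, hdet']
    have hpm : (a ^ (k + 1) - 1) * (a ^ (k + 1) + 1) = 0 := by linear_combination hsq
    rcases mul_eq_zero.1 hpm with h1 | h1
    · have h2 : a ^ (k + 1) = 1 := sub_eq_zero.1 h1
      refine isComm_scalar_construct k (W := Fin 2 → F) 1 1 a ?_ (det_shift_two k) LinearMap.det_id ?_ _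
        (fun x => rfl)
      · intro w
        rw [h2, one_smul]
      · have : LinearMap.det (1 : Module.End F (Fin 2 → F)) = 1 := LinearMap.det_id
        rw [this, one_pow, mul_one, finrank_fintype_fun_eq_card, Fintype.card_fin, pow_triangle, h2,
          one_pow]
    · have h2 : a ^ (k + 1) = -1 := eq_neg_of_add_eq_zero_left h1
      obtain ⟨b, c, hbc⟩ := exists_sq_add_mul_sq 1 a one_ne_zero
      refine isComm_scalar_construct k (W := Fin 2 → F) (Matrix.toLin' !![0, -1; 1, 0])
        (Matrix.toLin' !![b, c; c, -b]) a ?_ (det_shift_two k) ?_ ?_ _ (fun x => rfl)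
      · intro w
        rw [h2]
        funext i
        fin_cases i
        · simp [Matrix.toLin'_apply, Matrix.mulVec, dotProduct, Fin.sum_univ_two]
          ring
        · simp [Matrix.toLin'_apply, Matrix.mulVec, dotProduct, Fin.sum_univ_two]
      · rw [LinearMap.det_toLin', Matrix.det_fin_two]
        simp
      · rw [LinearMap.det_toLin', Matrix.det_fin_two, finrank_fintype_fun_eq_card, Fintype.card_fin,
          pow_triangle, h2]
        have h3 : (!![b, c; c, -b] : Matrix (Fin 2) (Fin 2) F) 0 0 *
            (!![b, c; c, -b] : Matrix (Fin 2) (Fin 2) F) 1 1 -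
            (!![b, c; c, -b] : Matrix (Fin 2) (Fin 2) F) 0 1 *
            (!![b, c; c, -b] : Matrix (Fin 2) (Fin 2) F) 1 0 = -a := by
          simp only [Matrix.of_apply, Matrix.cons_val', Matrix.cons_val_zero, Matrix.cons_val_one,
            Matrix.cons_val_fin_one]
          linear_combination -hbc
        rw [h3, neg_pow a, h2, ← mul_assoc, ← pow_add]
        have : k + (k + 1) = 2 * k + 1 := by ring
        rw [this, pow_succ, pow_mul]
        simp
  · obtain ⟨m, hm⟩ := ho
    have hdim : finrank F V = finrank F (Fin (2 * m + 1) → F) := by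
      rw [hm]; simp
    let e : (Fin (2 * m + 1) → F) ≃ₗ[F] V := (LinearEquiv.ofFinrankEq _ _ hdim).symm
    refine IsComm.congr e (a • LinearMap.id) S (fun x => by rw [hS]; simp) ?_
    have h2 : a ^ (2 * m + 1) = 1 := by rw [← hm, hdet']
    refine isComm_scalar_construct (2 * m) (W := F) 1 1 a ?_ (det_shift_odd (2 * m) (even_two_mul m))
      LinearMap.det_id ?_ _ (fun x => rfl)
    · intro w
      rw [h2, one_smul]
    · have h3 : LinearMap.det (1 : Module.End F F) = 1 := LinearMap.det_id
      have h4 : 2 * m * (2 * m + 1) / 2 = (2 * m + 1) * m := by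
        rw [mul_assoc, Nat.mul_div_cancel_left _ (by norm_num), mul_comm]
      rw [h3, one_pow, mul_one, finrank_self, one_mul, h4, pow_mul, h2, one_pow]

/-- dimension two, at least four elements -/
theorem isComm_dim2 (hq : 4 ≤ Nat.card F) (hk : finrank F V = 2) (S : Module.End F V)
    (hns : NonScalar S) (hdet : LinearMap.det S = 1) : IsComm S := by
  classical
  obtain ⟨b, hb0, hb1, hb2⟩ : ∃ b : F, b ≠ 0 ∧ b ≠ 1 ∧ b ≠ -1 := by
    by_contra hcon
    push Not at hcon
    have h1 : (Set.univ : Set F) ⊆ {0, 1, -1} := by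
      intro t _
      by_cases h : t = 0
      · exact Or.inl h
      · by_cases h' : t = 1
        · exact Or.inr (Or.inl h')
        · exact Or.inr (Or.inr (hcon t h h'))
    have h2 := Set.ncard_le_ncard h1 (Set.toFinite _)
    have h3 := Set.ncard_insert_le (0 : F) {1, -1}
    have h4 := Set.ncard_insert_le (1 : F) {-1}
    rw [Set.ncard_singleton] at h4
    rw [Set.ncard_univ] at h2
    omega
  have hbb : b ≠ b⁻¹ := by
    intro h
    have h1 : b * b = 1 := by nth_rewrite 2 [h]; exact mul_inv_cancel₀ hb0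
    have h2 : (b - 1) * (b + 1) = 0 := by linear_combination h1
    rcases mul_eq_zero.1 h2 with h3 | h3
    · exact hb1 (sub_eq_zero.1 h3)
    · exact hb2 (eq_neg_of_add_eq_zero_left h3)
  obtain ⟨v, hli⟩ := exists_noneigen S hns
  let bas : Basis (Fin 2) F V := basisOfLinearIndependentOfCardEqFinrank hli (by rw [hk]; rfl)
  let φ : V →ₗ[F] F := bas.constr F ![1, 1]
  have hv0 : bas 0 = v := by simp [bas]
  have hv1 : bas 1 = S v := by simp [bas]
  have hv : φ v = 1 := by rw [← hv0, bas.constr_basis]; rfl
  have hSv : φ (S v) = 1 := by rw [← hv1, bas.constr_basis]; rfl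
  have hk' := finrank_ker_functional φ v hv
  have hk1 : finrank F (LinearMap.ker φ) = 1 := by omega
  obtain ⟨w₀, hw₀, hw⟩ := finrank_eq_one_iff'.1 hk1
  have hT : ∀ w, schur S φ v hSv w = w := by
    obtain ⟨t, ht⟩ := hw (schur S φ v hSv w₀)
    have h1 : ∀ w, schur S φ v hSv w = t • w := by
      intro w
      obtain ⟨s, rfl⟩ := hw w
      rw [map_smul, ← ht, smul_comm]
    have h2 := (det_scalar _ t h1).1
    rw [det_schur S φ v hv hSv, hdet, hk1, pow_one] at h2
    intro w
    rw [h1, ← h2, one_smul]
  obtain ⟨B, D, L⟩ := exists_lift S φ v hv hSv b (b⁻¹ • LinearMap.id) (b⁻¹ • LinearMap.id)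
    (fun w => hT _)
  have hB' : ∀ (p : F[X]) (w : LinearMap.ker φ),
      aeval (b⁻¹ • LinearMap.id : Module.End F (LinearMap.ker φ)) p w = p.eval b⁻¹ • w := by
    intro p w
    have h1 := aeval_intertwine (A := algebraMap F (Module.End F F) b⁻¹)
      (B := (b⁻¹ • LinearMap.id : Module.End F (LinearMap.ker φ)))
      (LinearMap.toSpanSingleton F (LinearMap.ker φ) w) (by
        intro y
        simp only [LinearMap.toSpanSingleton_apply, Module.algebraMap_end_apply, smul_eq_mul,
          LinearMap.smul_apply, LinearMap.id_apply]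
        rw [mul_smul]) p 1
    rw [aeval_scalar] at h1
    simpa using h1.symm
  have hcop : IsCoprime (X - C b : F[X]) (X - C b⁻¹) := by
    rw [(prime_X_sub_C b).irreducible.coprime_iff_not_dvd, dvd_iff_isRoot, IsRoot, eval_sub, eval_X,
      eval_C, sub_eq_zero]
    exact hbb
  have hkill : ∀ w, aeval (b⁻¹ • LinearMap.id : Module.End F (LinearMap.ker φ)) (X - C b⁻¹) w = 0 := by
    intro w
    rw [hB', eval_sub, eval_X, eval_C, sub_self, zero_smul]
  have hmon : ((X - C b) * (X - C b⁻¹) : F[X]).Monic := (monic_X_sub_C b).mul (monic_X_sub_C b⁻¹)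
  have hdvd' : ∀ p : F[X],
      (∀ w, aeval (b⁻¹ • LinearMap.id : Module.End F (LinearMap.ker φ)) p w = 0) → (X - C b⁻¹) ∣ p := by
    intro p hp
    rw [dvd_iff_isRoot]
    have := hp w₀
    rw [hB'] at this
    exact (smul_eq_zero.1 this).resolve_right hw₀
  have hmin : ∀ A : Module.End F V, (∀ x, aeval A ((X - C b) * (X - C b⁻¹)) x = 0) →
      (∀ p : F[X], (∀ x, aeval A p x = 0) → (X - C b⁻¹) ∣ p) →
      (∀ p : F[X], (∀ x, aeval A p x = 0) → p.eval b = 0) →
      minpoly F A = (X - C b) * (X - C b⁻¹) := by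
    intro A h1 h2 h3
    have hm : (minpoly F A).Monic := minpoly.monic (Algebra.IsIntegral.isIntegral A)
    apply eq_of_monic_of_associated hm hmon
    apply associated_of_dvd_dvd
    · exact minpoly.dvd F A (LinearMap.ext h1)
    · have h4 : ∀ x, aeval A (minpoly F A) x = 0 := fun x => by rw [minpoly.aeval]; rfl
      exact hcop.mul_dvd (dvd_iff_isRoot.2 (h3 _ h4)) (h2 _ h4)
  have hmB := hmin B (L.ann_B _ hkill) (L.dvd_B _ hdvd') L.root_B
  have hmD := hmin D (L.ann_D _ hkill) (L.dvd_D _ hdvd') L.root_D
  have hdeg : ((X - C b) * (X - C b⁻¹) : F[X]).natDegree = finrank F V := by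
    rw [(monic_X_sub_C b).natDegree_mul (monic_X_sub_C _), natDegree_X_sub_C, natDegree_X_sub_C, hk]
  refine isComm_of_cyclic S B D _ hmB hmD hdeg L.sd ?_ ?_
  · rw [hk, coeff_zero_eq_eval_zero, eval_mul, eval_sub, eval_sub, eval_X, eval_C, eval_C]
    simp [hb0]
  · intro t ht
    refine exists_centralizer_det D b (X - C b⁻¹) (L.ann_D _ hkill) ?_ ?_ t ht
    · intro h
      have h1 := minpoly.dvd F D h
      rw [hmD] at h1
      have h2 := natDegree_le_of_dvd h1 (monic_X_sub_C _).ne_zero
      rw [hdeg, hk, natDegree_X_sub_C] at h2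
      omega
    · rw [eval_sub, eval_X, eval_C, sub_ne_zero]
      exact hbb

/-- Thompson's theorem for endomorphisms of determinant one -/
theorem isComm_main {F : Type u} [Field F] [Finite F] (V : Type w) [AddCommGroup V] [Module F V]
    [FiniteDimensional F V] (hk : 2 ≤ finrank F V) (hex : finrank F V = 2 → 4 ≤ Nat.card F)
    (S : Module.End F V) (hdet : LinearMap.det S = 1) : IsComm S := by
  by_cases hns : NonScalar S
  · rcases Nat.lt_or_ge (finrank F V) 3 with h2 | h3
    · have h2' : finrank F V = 2 := by omega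
      exact isComm_dim2 (hex h2') h2' S hns hdet
    · obtain ⟨e, he, hb⟩ := exists_good.{u, w} F
      rcases Nat.lt_or_ge (finrank F (LinearMap.range (S - 1))) 2 with hR | hR
      · obtain ⟨x, ψ, hψ⟩ := exists_rank_one (S - 1) (by omega)
        have hS : ∀ y, S y = y + ψ y • x := by
          intro y
          rw [← hψ]; simp
        have hψx : ψ x = 0 := by
          have h1 : S = LinearMap.transvection ψ x := by
            apply LinearMap.ext; intro y
            rw [LinearMap.transvection.apply, hS]
          rw [h1, LinearMap.transvection.det] at hdet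
          linear_combination hdet
        exact isComm_transvection h3 S x ψ hψx hS
      · rcases Nat.lt_or_ge (finrank F V) 4 with h4 | h4
        · exact isComm_dim3 e he hb V S (by omega) hdet hns hR
        · rcases Nat.lt_or_ge (finrank F (LinearMap.range (S - 1))) 3 with hR3 | hR3
          · exact isComm_rank2' (finrank F V - 4) V S (by omega) hdet (by omega)
          · exact isComm_rank3 e he hb V S h4 hdet hns hR3
  · unfold NonScalar at hns
    push Not at hns
    obtain ⟨a, ha⟩ := hns
    exact isComm_scalar (by omega) S a ha hdet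

end Main

end Cfsg.Agent.H141.Ore
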