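import Cfsg.Agent.H141.Ore.Two

/-!
# The three-dimensional base case over fields with at least three elements (helper141, S2444)
-/

set_option autoImplicit false
set_option linter.unusedSectionVars false

namespace Cfsg.Agent.H141.Ore

open Module Polynomial

universe u w

section Select

variable {F : Type*} [Field F] [Finite F] {V : Type*} [AddCommGroup V] [Module F V]
  [FiniteDimensional F V]

theorem det_scalar {W : Type*} [AddCommGroup W] [Module F W] [FiniteDimensional F W]
    (T : Module.End F W) (a : F) (h : ∀ x, T x = a • x) :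
    LinearMap.det T = a ^ finrank F W ∧ LinearMap.trace F W T = a * finrank F W := by
  have hT : T = a • LinearMap.id := by
    apply LinearMap.ext; intro x; rw [h]; rfl
  constructor
  · rw [hT, LinearMap.det_smul, LinearMap.det_id, mul_one]
  · rw [hT, map_smul, LinearMap.trace_id, smul_eq_mul]

theorem exists_notMem_pair (hq : 3 ≤ Nat.card F) (a b : F) : ∃ t : F, t ≠ a ∧ t ≠ b := by
  classical
  by_contra hcon
  push Not at hcon
  have h1 : (Set.univ : Set F) ⊆ {a, b} := by
    intro t _
    by_cases h : t = a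
    · exact Or.inl h
    · exact Or.inr (hcon t h)
  have h2 := Set.ncard_le_ncard h1 (Set.toFinite _)
  have h3 := Set.ncard_insert_le a {b}
  rw [Set.ncard_singleton] at h3
  rw [Set.ncard_univ] at h2
  omega

theorem select_dim3 (hq : 3 ≤ Nat.card F) (S : Module.End F V) (hk : finrank F V = 3)
    (hdet : LinearMap.det S = 1) (hns : NonScalar S)
    (hR : 2 ≤ finrank F (LinearMap.range (S - 1))) :
    ∃ (v : V) (φ : V →ₗ[F] F) (_ : φ v = 1) (hSv : φ (S v) = 1),
      NonScalar (schur S φ v hSv) ∧
      LinearMap.trace F (LinearMap.ker φ) (schur S φ v hSv) ≠ 2 := by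
  have hsc : ∀ (v : V) (φ : V →ₗ[F] F) (_ : φ v = 1) (hSv : φ (S v) = 1) (a : F),
      (∀ w, schur S φ v hSv w = a • w) →
      (a = 1 ∨ a = -1) ∧ LinearMap.trace F (LinearMap.ker φ) (schur S φ v hSv) = a * 2 := by
    intro v φ hv hSv a ha
    have h1 := finrank_ker_functional φ v hv
    have h2 : finrank F (LinearMap.ker φ) = 2 := by omega
    obtain ⟨h3, h4⟩ := det_scalar _ a ha
    rw [det_schur S φ v hv hSv, hdet, h2] at h3
    rw [h2] at h4
    refine ⟨?_, by rw [h4]; norm_num⟩
    have h5 : (a - 1) * (a + 1) = 0 := by linear_combination -h3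
    rcases mul_eq_zero.1 h5 with h6 | h6
    · exact Or.inl (sub_eq_zero.1 h6)
    · exact Or.inr (eq_neg_of_add_eq_zero_left h6)
  rcases cyclic_or_rank_one S hk hns with ⟨v, hli⟩ | ⟨a, x, ψ, hS⟩
  · let b : Basis (Fin 3) F V := basisOfLinearIndependentOfCardEqFinrank hli (by rw [hk]; rfl)
    obtain ⟨t, ht1, ht2⟩ := exists_notMem_pair hq (LinearMap.trace F V S - 2)
      (LinearMap.trace F V S + 2)
    let φ : V →ₗ[F] F := b.constr F ![1, 1, t]
    have hb0 : b 0 = v := by simp [b]
    have hb1 : b 1 = S v := by simp [b]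
    have hb2 : b 2 = S (S v) := by simp [b]
    have hv : φ v = 1 := by rw [← hb0, b.constr_basis]; rfl
    have hSv : φ (S v) = 1 := by rw [← hb1, b.constr_basis]; rfl
    have hSSv : φ (S (S v)) = t := by rw [← hb2, b.constr_basis]; rfl
    have htr := trace_schur S φ v hSv
    rw [hSSv] at htr
    refine ⟨v, φ, hv, hSv, ?_, ?_⟩
    · intro c
      by_contra hcon
      push Not at hcon
      obtain ⟨h1, h2⟩ := hsc v φ hv hSv c hcon
      rw [htr] at h2
      rcases h1 with rfl | rfl
      · exact ht1 (by linear_combination -h2)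
      · exact ht2 (by linear_combination -h2)
    · rw [htr]
      intro h
      exact ht1 (by linear_combination -h)
  · -- scalar plus rank one
    have ha1 : a ≠ 1 := by
      rintro rfl
      have h1 : LinearMap.range (S - 1) ≤ ⊥ ⊔ Submodule.span F {x} := by
        rintro _ ⟨y, rfl⟩
        rw [bot_sup_eq, LinearMap.sub_apply, Module.End.one_apply, hS, one_smul, add_sub_cancel_left]
        exact Submodule.smul_mem _ _ (Submodule.mem_span_singleton_self x)
      have h2 := Submodule.finrank_mono h1
      have h3 := finrank_sup_span_le (⊥ : Submodule F V) x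
      rw [finrank_bot] at h3
      omega
    have hinj : ∀ y, S y = 0 → y = 0 := by
      intro y hy
      have hu : IsUnit (LinearMap.det S) := by rw [hdet]; exact isUnit_one
      have h1 : LinearMap.equivOfIsUnitDet hu y = 0 := by
        rw [LinearMap.equivOfIsUnitDet_apply]; exact hy
      exact (LinearEquiv.map_eq_zero_iff _).1 h1
    have hkerψ : ∃ y, y ≠ 0 ∧ ψ y = 0 := by
      have h1 := LinearMap.finrank_range_add_finrank_ker ψ
      have h2 : finrank F (LinearMap.range ψ) ≤ 1 := by
        have := Submodule.finrank_le (LinearMap.range ψ)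
        rw [finrank_self] at this
        exact this
      have h3 : 0 < finrank F (LinearMap.ker ψ) := by omega
      have : Nontrivial (LinearMap.ker ψ) := Module.nontrivial_of_finrank_pos h3
      obtain ⟨y, hy⟩ := exists_ne (0 : LinearMap.ker ψ)
      exact ⟨y, fun h => hy (Subtype.ext h), y.2⟩
    have ha0 : a ≠ 0 := by
      rintro rfl
      obtain ⟨y, hy0, hy⟩ := hkerψ
      apply hy0
      apply hinj
      rw [hS, hy, zero_smul, zero_smul, add_zero]
    have hx0 : x ≠ 0 := by
      rintro rfl
      obtain ⟨y, hy⟩ := hns a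
      apply hy
      rw [hS, smul_zero, add_zero]
    have hψ0 : ∃ y, ψ y ≠ 0 := by
      by_contra hcon
      push Not at hcon
      obtain ⟨y, hy⟩ := hns a
      apply hy
      rw [hS, hcon, zero_smul, add_zero]
    have hdetS : a ^ 3 + a ^ 2 * ψ x = 1 := by
      have h1 : S = a • LinearMap.transvection ψ (a⁻¹ • x) := by
        apply LinearMap.ext
        intro y
        rw [LinearMap.smul_apply, LinearMap.transvection.apply, hS, smul_add, smul_comm (ψ y),
          smul_smul, mul_inv_cancel₀ ha0, one_smul]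
      rw [h1, LinearMap.det_smul, LinearMap.transvection.det, hk, map_smul, smul_eq_mul] at hdet
      field_simp at hdet
      linear_combination hdet
    have htrS : LinearMap.trace F V S = 3 * a + ψ x := by
      have h1 : S = a • LinearMap.id + LinearMap.toSpanSingleton F V x ∘ₗ ψ := by
        apply LinearMap.ext
        intro y
        rw [hS]; rfl
      rw [h1, map_add, map_smul, LinearMap.trace_id, hk, trace_toSpanSingleton_comp, smul_eq_mul]
      push_cast
      ring
    -- choice of v
    obtain ⟨v, hψv, hvx⟩ : ∃ v, ψ v ≠ 0 ∧ v ∉ Submodule.span F {x} := by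
      obtain ⟨v₀, hv₀⟩ := hψ0
      by_cases h1 : v₀ ∈ Submodule.span F {x}
      · obtain ⟨y, hy⟩ : ∃ y, y ∉ Submodule.span F {x} := by
          by_contra hcon
          push Not at hcon
          have h1 : (⊤ : Submodule F V) ≤ ⊥ ⊔ Submodule.span F {x} := by
            rw [bot_sup_eq]; exact fun y _ => hcon y
          have h2 := Submodule.finrank_mono h1
          have h3 := finrank_sup_span_le (⊥ : Submodule F V) x
          rw [finrank_bot] at h3
          rw [finrank_top] at h2
          omega
        by_cases h2 : ψ y = 0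
        · refine ⟨v₀ + y, by rw [map_add, h2, add_zero]; exact hv₀, fun h => hy ?_⟩
          have := sub_mem h h1
          rwa [add_sub_cancel_left] at this
        · exact ⟨y, h2, hy⟩
      · exact ⟨v₀, hv₀, h1⟩
    have hxv : x ∉ Submodule.span F {v} := notMem_swap hx0 hvx
    obtain ⟨z, hz⟩ : ∃ z, z ∉ (⊥ ⊔ Submodule.span F {v}) ⊔ Submodule.span F {x} := by
      by_contra hcon
      push Not at hcon
      have h1 : (⊤ : Submodule F V) ≤ (⊥ ⊔ Submodule.span F {v}) ⊔ Submodule.span F {x} :=
        fun y _ => hcon y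
      have h2 := Submodule.finrank_mono h1
      have h3 := finrank_sup_span_le (⊥ ⊔ Submodule.span F {v} : Submodule F V) x
      have h4 := finrank_sup_span_le (⊥ : Submodule F V) v
      rw [finrank_bot] at h4
      rw [finrank_top] at h2
      omega
    obtain ⟨f, hf, hfx⟩ := Submodule.exists_le_ker_of_notMem hvx
    obtain ⟨g, hg, hgv⟩ := Submodule.exists_le_ker_of_notMem hxv
    obtain ⟨h, hh, hhP⟩ := Submodule.exists_le_ker_of_notMem hz
    have hfx' : f x = 0 := hfx (Submodule.mem_span_singleton_self x)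
    have hgv' : g v = 0 := hgv (Submodule.mem_span_singleton_self v)
    have hhv : h v = 0 := hhP ((le_sup_right.trans le_sup_left : Submodule.span F {v} ≤ _)
      (Submodule.mem_span_singleton_self v))
    have hhx : h x = 0 := hhP ((le_sup_right : Submodule.span F {x} ≤ _)
      (Submodule.mem_span_singleton_self x))
    set k : F := (1 - a) / ψ v with hk'
    have hkψ : ψ v * k = 1 - a := by rw [hk', mul_div_cancel₀ _ hψv]
    have hval : ∀ φ : V →ₗ[F] F, φ v = 1 → φ x = k → φ (S v) = 1 := by
      intro φ h1 h2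
      rw [hS, map_add, map_smul, map_smul, h1, h2, smul_eq_mul, smul_eq_mul, hkψ]
      ring
    let φ₁ : V →ₗ[F] F := (f v)⁻¹ • f + (k * (g x)⁻¹) • g
    let φ₂ : V →ₗ[F] F := φ₁ + h
    have e1 : φ₁ v = 1 := by simp [φ₁, hgv', hf]
    have e2 : φ₁ x = k := by simp [φ₁, hfx', hg]
    have e3 : φ₂ v = 1 := by simp [φ₂, e1, hhv]
    have e4 : φ₂ x = k := by simp [φ₂, e2, hhx]
    have hne : φ₁ ≠ φ₂ := by
      intro he
      apply hh
      have := LinearMap.congr_fun he z
      simp only [φ₂, LinearMap.add_apply] at this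
      exact (left_eq_add.1 this)
    have hSvne : S v ≠ v := by
      intro hcon
      rw [hS] at hcon
      apply hvx
      rw [Submodule.mem_span_singleton]
      refine ⟨ψ v / (1 - a), ?_⟩
      have h1 : ψ v • x = (1 - a) • v := by
        rw [sub_smul, one_smul]
        nth_rewrite 2 [← hcon]
        abel
      rw [div_eq_inv_mul, mul_smul, h1, smul_smul, inv_mul_cancel₀ (sub_ne_zero.2 (Ne.symm ha1)),
        one_smul]
    have htr : ∀ (φ : V →ₗ[F] F) (h1 : φ v = 1) (h2 : φ x = k),
        LinearMap.trace F (LinearMap.ker φ) (schur S φ v (hval φ h1 h2)) ≠ 2 := by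
      intro φ h1 h2 hcon
      rw [trace_schur, htrS] at hcon
      have h3 : φ (S (S v)) = a + (a + ψ x) * (1 - a) := by
        rw [hS (S v), map_add, map_smul, map_smul, hval φ h1 h2, hS v, map_add, map_smul, map_smul,
          h2]
        simp only [smul_eq_mul]
        linear_combination (a + ψ x) * hkψ
      rw [h3] at hcon
      apply ha1
      have h4 : (a - 1) ^ 2 = 0 := by linear_combination a * hcon - hdetS
      exact sub_eq_zero.1 (pow_eq_zero_iff (by norm_num) |>.1 h4)
    have hdic : NonScalar (schur S φ₁ v (hval φ₁ e1 e2)) ∨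
        NonScalar (schur S φ₂ v (hval φ₂ e3 e4)) := by
      by_contra hcon
      push Not at hcon
      obtain ⟨c1, c2⟩ := hcon
      unfold NonScalar at c1 c2
      push Not at c1 c2
      obtain ⟨μ₁, hμ₁⟩ := c1
      obtain ⟨μ₂, hμ₂⟩ := c2
      obtain ⟨d1, d2⟩ := hsc v φ₁ e1 (hval φ₁ e1 e2) μ₁ hμ₁
      obtain ⟨d3, d4⟩ := hsc v φ₂ e3 (hval φ₂ e3 e4) μ₂ hμ₂
      have g1 : μ₁ = -1 := by
        rcases d1 with rfl | h
        · exact absurd (by rw [d2, one_mul]) (htr φ₁ e1 e2)
        · exact h
      have g2 : μ₂ = -1 := by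
        rcases d3 with rfl | h
        · exact absurd (by rw [d4, one_mul]) (htr φ₂ e3 e4)
        · exact h
      subst g1 g2
      exact hne (schur_scalar_unique S φ₁ φ₂ v e1 e3 (hval φ₁ e1 e2) (hval φ₂ e3 e4) hSvne (-1)
        (neg_ne_zero.2 one_ne_zero) hμ₁ hμ₂)
    rcases hdic with h1 | h1
    · exact ⟨v, φ₁, e1, hval φ₁ e1 e2, h1, htr φ₁ e1 e2⟩
    · exact ⟨v, φ₂, e3, hval φ₂ e3 e4, h1, htr φ₂ e3 e4⟩

end Select

section Quad

variable {F : Type*} [Field F]

theorem quad_monic (τ c : F) : (X ^ 2 - C τ * X + C c : F[X]).Monic := by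
  have : (X ^ 2 - C τ * X + C c : F[X]) = X ^ 2 + (C (-τ) * X + C c) := by
    rw [map_neg]; ring
  rw [this]
  apply monic_X_pow_add
  exact (degree_linear_le).trans_lt (by norm_num)

theorem quad_natDegree (τ c : F) : (X ^ 2 - C τ * X + C c : F[X]).natDegree = 2 := by
  compute_degree!

theorem quad_eval (τ c x : F) : (X ^ 2 - C τ * X + C c : F[X]).eval x = x ^ 2 - τ * x + c := by
  simp

theorem quad_irreducible (τ c : F) (h : ∀ x : F, x ^ 2 - τ * x + c ≠ 0) :
    Irreducible (X ^ 2 - C τ * X + C c : F[X]) := by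
  apply irreducible_of_degree_le_three_of_not_isRoot
  · rw [quad_natDegree]; simp
  · intro x hx
    rw [IsRoot, quad_eval] at hx
    exact h x hx

theorem exists_quad [Finite F] (hq : 3 ≤ Nat.card F) :
    ∃ τ c : F, τ ≠ 0 ∧ c ≠ 0 ∧ c ≠ 1 ∧ ∀ x : F, x ^ 2 - τ * x + c ≠ 0 := by
  by_cases h2 : (2 : F) = 0
  · have hni : ¬ Function.Injective (fun x : F => x ^ 2 + x) := by
      intro h
      have : (0 : F) = -1 := h (by norm_num)
      have h1 : (1 : F) = 0 := by linear_combination this
      exact one_ne_zero h1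
    have hns : ¬ Function.Surjective (fun x : F => x ^ 2 + x) :=
      fun h => hni (Finite.injective_iff_surjective.2 h)
    rw [Function.Surjective] at hns
    push Not at hns
    obtain ⟨δ, hδ⟩ := hns
    have hδ0 : δ ≠ 0 := by
      rintro rfl
      exact hδ 0 (by norm_num)
    by_cases h1 : -δ = 1
    · obtain ⟨t, ht0, ht1⟩ := exists_notMem_pair hq (0 : F) 1
      refine ⟨-t, t ^ 2, neg_ne_zero.2 ht0, pow_ne_zero _ ht0, ?_, ?_⟩
      · intro h
        apply ht1
        have : (t - 1) ^ 2 = 0 := by linear_combination h + (1 - t) * h2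
        exact sub_eq_zero.1 (pow_eq_zero_iff (by norm_num) |>.1 this)
      · intro x hx
        apply hδ (x / t)
        have hδ' : δ = -1 := by rw [← h1, neg_neg]
        rw [hδ']
        field_simp
        linear_combination hx
    · refine ⟨-1, -δ, neg_ne_zero.2 one_ne_zero, neg_ne_zero.2 hδ0, h1, ?_⟩
      intro x hx
      apply hδ x
      linear_combination hx
  · have hc : ringChar F ≠ 2 := by
      intro h
      apply h2
      have : ((2 : ℕ) : F) = 0 := by rw [← h]; exact ringChar.Nat.cast_ringChar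
      exact_mod_cast this
    obtain ⟨δ, hδ⟩ := FiniteField.exists_nonsquare hc
    refine ⟨2, 1 - δ, h2, ?_, ?_, ?_⟩
    · intro h
      apply hδ
      refine ⟨1, ?_⟩
      linear_combination -h
    · intro h
      apply hδ
      refine ⟨0, ?_⟩
      linear_combination -h
    · intro x hx
      apply hδ
      refine ⟨x - 1, ?_⟩
      linear_combination -hx

theorem dvd_of_irreducible_kill {W : Type*} [AddCommGroup W] [Module F W] [Nontrivial W]
    (B : Module.End F W) (g : F[X]) (hg : Irreducible g) (hm : g.Monic) (h : aeval B g = 0)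
    (p : F[X]) (hp : ∀ x, aeval B p x = 0) : g ∣ p := by
  rw [minpoly.eq_of_irreducible_of_monic hg h hm]
  exact minpoly.dvd F B (LinearMap.ext hp)

/-- the cubic, fields with at least three elements -/
theorem good_cubic (τ c : F) (hc0 : c ≠ 0) (hc1 : c ≠ 1) (h : ∀ x : F, x ^ 2 - τ * x + c ≠ 0) :
    Good ((X - C c⁻¹) * (X ^ 2 - C τ * X + C c)) where
  monic := (monic_X_sub_C _).mul (quad_monic τ c)
  deg := by
    rw [(monic_X_sub_C _).natDegree_mul (quad_monic τ c), natDegree_X_sub_C, quad_natDegree]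
  coeff := by
    rw [coeff_zero_eq_eval_zero, eval_mul, quad_eval]
    simp [hc0]
  one := by
    rw [eval_mul, quad_eval]
    refine mul_ne_zero ?_ (h 1)
    rw [eval_sub, eval_X, eval_C, sub_ne_zero]
    intro h1
    apply hc1
    rw [eq_comm, inv_eq_one] at h1
    exact h1
  ctrl := Or.inr ⟨c⁻¹, _, rfl, by rw [quad_eval]; exact h _⟩

theorem base_cubic {F : Type u} [Field F] [Finite F] (hq : 3 ≤ Nat.card F) (τ c : F) (hτ : τ ≠ 0)
    (h : ∀ x : F, x ^ 2 - τ * x + c ≠ 0) :
    BaseHyp.{u, w} F ((X - C c⁻¹) * (X ^ 2 - C τ * X + C c)) := by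
  intro V _ _ _ S hk hdet hns hR
  obtain ⟨v, φ, hv, hSv, hns', htr⟩ := select_dim3 hq S hk hdet hns hR
  have hk' := finrank_ker_functional φ v hv
  obtain ⟨B', D', hSD, hB', hD'⟩ := exists_pair_two τ c hτ (schur S φ v hSv) (by omega)
    (by rw [det_schur S φ v hv hSv, hdet]) hns' htr
  have hnt : Nontrivial (LinearMap.ker φ) := Module.nontrivial_of_finrank_pos (R := F) (by omega)
  obtain ⟨B, D, L⟩ := exists_lift S φ v hv hSv c⁻¹ B' D' hSD
  have hirr := quad_irreducible τ c h
  have hcop : IsCoprime (X - C c⁻¹) (X ^ 2 - C τ * X + C c : F[X]) := by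
    rw [(prime_X_sub_C c⁻¹).irreducible.coprime_iff_not_dvd, dvd_iff_isRoot, IsRoot, quad_eval]
    exact h _
  refine ⟨B, D, L.sd, ?_, ?_, ?_, ?_⟩
  · intro x
    rw [pow_zero, one_mul]
    exact L.ann_B _ (fun w => by rw [hB']; rfl) x
  · intro x
    rw [pow_zero, one_mul]
    exact L.ann_D _ (fun w => by rw [hD']; rfl) x
  · intro p hp
    refine hcop.mul_dvd (dvd_iff_isRoot.2 (L.root_B p hp)) ?_
    exact L.dvd_B _ (fun p hp => dvd_of_irreducible_kill B' _ hirr (quad_monic τ c) hB' p hp) p hp
  · intro p hp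
    refine hcop.mul_dvd (dvd_iff_isRoot.2 (L.root_D p hp)) ?_
    exact L.dvd_D _ (fun p hp => dvd_of_irreducible_kill D' _ hirr (quad_monic τ c) hD' p hp) p hp

end Quad

end Cfsg.Agent.H141.Ore
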