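import Cfsg.Agent.H141.Ore.Base

/-!
# The three-dimensional base case over the field with two elements (helper141, S2444)
-/

set_option autoImplicit false
set_option linter.unusedSectionVars false

namespace Cfsg.Agent.H141.Ore

open Module Polynomial

universe u w

theorem zmod_two_pair (a b : ZMod 2) : ∃ M : Matrix (Fin 3) (Fin 3) (ZMod 2),
    M * M * M + M + 1 = 0 ∧ (!![0, 0, 1; 1, 0, a; 0, 1, b] * M) * (!![0, 0, 1; 1, 0, a; 0, 1, b] * M) *
      (!![0, 0, 1; 1, 0, a; 0, 1, b] * M) + (!![0, 0, 1; 1, 0, a; 0, 1, b] * M) + 1 = 0 := by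
  fin_cases a <;> fin_cases b
  · exact ⟨!![0, 1, 1; 1, 1, 0; 1, 1, 1], by decide +kernel, by decide +kernel⟩
  · exact ⟨!![1, 0, 1; 1, 1, 0; 0, 1, 0], by decide +kernel, by decide +kernel⟩
  · exact ⟨!![0, 0, 1; 1, 0, 1; 0, 1, 0], by decide +kernel, by decide +kernel⟩
  · exact ⟨!![0, 0, 1; 0, 1, 1; 1, 1, 1], by decide +kernel, by decide +kernel⟩

variable {F : Type*} [Field F]

theorem two_elem (hq : Nat.card F = 2) (t : F) : t = 0 ∨ t = 1 := by
  have hfin : Finite F := Nat.finite_of_card_ne_zero (by omega)
  by_contra hcon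
  push Not at hcon
  have h1 : ({0, 1, t} : Set F).ncard = 3 := by
    rw [Set.ncard_eq_three]
    exact ⟨0, 1, t, zero_ne_one, hcon.1.symm, hcon.2.symm, rfl⟩
  have h2 := Set.ncard_le_card ({0, 1, t} : Set F)
  omega

theorem two_eq_zero (hq : Nat.card F = 2) : (2 : F) = 0 := by
  rcases two_elem hq 2 with h | h
  · exact h
  · exfalso
    have : (1 : F) = 0 := by linear_combination h
    exact one_ne_zero this

theorem cubic_two_natDegree : (X ^ 3 + X + 1 : F[X]).natDegree = 3 := by compute_degree!

theorem cubic_two_monic : (X ^ 3 + X + 1 : F[X]).Monic := by monicity!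

theorem cubic_two_eval (hq : Nat.card F = 2) (x : F) : (X ^ 3 + X + 1 : F[X]).eval x ≠ 0 := by
  simp only [eval_add, eval_pow, eval_X, eval_one]
  rcases two_elem hq x with rfl | rfl
  · simp
  · intro h
    apply one_ne_zero (α := F)
    linear_combination h - two_eq_zero hq

theorem cubic_two_irreducible (hq : Nat.card F = 2) : Irreducible (X ^ 3 + X + 1 : F[X]) := by
  apply irreducible_of_degree_le_three_of_not_isRoot
  · rw [cubic_two_natDegree]; simp
  · intro x hx
    exact cubic_two_eval hq x hx

theorem good_two (hq : Nat.card F = 2) : Good (X ^ 3 + X + 1 : F[X]) where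
  monic := cubic_two_monic
  deg := cubic_two_natDegree
  coeff := by
    rw [coeff_zero_eq_eval_zero]
    simp only [eval_add, eval_pow, eval_X, eval_one]
    linear_combination two_eq_zero hq
  one := cubic_two_eval hq 1
  ctrl := Or.inl fun t ht => (two_elem hq t).resolve_left ht

open Matrix in
theorem base_two {F : Type u} [Field F] (hq : Nat.card F = 2) :
    BaseHyp.{u, w} F (X ^ 3 + X + 1) := by
  intro V _ _ _ S hk hdet hns hR
  have h20 := two_eq_zero hq
  have hfin : Finite F := Nat.finite_of_card_ne_zero (by omega)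
  rcases cyclic_or_rank_one S hk hns with ⟨v, hli⟩ | ⟨a, x, ψ, hS⟩
  · let b : Basis (Fin 3) F V := basisOfLinearIndependentOfCardEqFinrank hli (by rw [hk]; rfl)
    have hb0 : b 0 = v := by simp [b]
    have hb1 : b 1 = S v := by simp [b]
    have hb2 : b 2 = S (S v) := by simp [b]
    have e0 : ∀ i, LinearMap.toMatrix b b S i 0 = if i = 1 then 1 else 0 := by
      intro i
      rw [LinearMap.toMatrix_apply, hb0, ← hb1, b.repr_self, Finsupp.single_apply]
      simp [eq_comm]
    have e1 : ∀ i, LinearMap.toMatrix b b S i 1 = if i = 2 then 1 else 0 := by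
      intro i
      rw [LinearMap.toMatrix_apply, hb1, ← hb2, b.repr_self, Finsupp.single_apply]
      simp [eq_comm]
    set A := LinearMap.toMatrix b b S with hA
    have edet := LinearMap.det_toMatrix b S
    rw [hdet, ← hA, Matrix.det_fin_three] at edet
    simp only [e0, e1] at edet
    have e20 : A 0 2 = 1 := by
      simpa using edet
    have hAm : A = !![0, 0, 1; 1, 0, A 1 2; 0, 1, A 2 2] := by
      ext i j
      fin_cases i <;> fin_cases j <;> simp [e0, e1, e20]
    have hchar : CharP F 2 := by
      have := ringChar_eq_two h20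
      rw [← this]; infer_instance
    let f : ZMod 2 →+* F := ZMod.castHom (dvd_refl 2) F
    have hf : ∀ t : F, ∃ a : ZMod 2, f a = t := by
      intro t
      rcases two_elem hq t with rfl | rfl
      · exact ⟨0, map_zero f⟩
      · exact ⟨1, map_one f⟩
    obtain ⟨α, hα⟩ := hf (A 1 2)
    obtain ⟨β, hβ⟩ := hf (A 2 2)
    obtain ⟨M₀, hM₀, hN₀⟩ := zmod_two_pair α β
    set S₀ : Matrix (Fin 3) (Fin 3) (ZMod 2) := !![0, 0, 1; 1, 0, α; 0, 1, β] with hS₀
    have hAS : A = f.mapMatrix S₀ := by
      rw [hAm]
      ext i j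
      fin_cases i <;> fin_cases j <;> simp [hS₀, hα, hβ]
    set M := f.mapMatrix M₀ with hM
    have hM1 : M * M * M + M + 1 = 0 := by
      rw [hM, ← map_mul, ← map_mul, ← map_add, ← map_one f.mapMatrix, ← map_add, hM₀, map_zero]
    have hN1 : (A * M) * (A * M) * (A * M) + (A * M) + 1 = 0 := by
      rw [hM, hAS, ← map_mul, ← map_mul, ← map_mul, ← map_add, ← map_one f.mapMatrix, ← map_add,
        hN₀, map_zero]
    have hT : S = Matrix.toLinAlgEquiv b A := by
      rw [hA]
      exact (Matrix.toLin_toMatrix b b S).symm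
    have hnt : Nontrivial V := Module.nontrivial_of_finrank_pos (R := F) (by omega)
    have hkill : ∀ N : Matrix (Fin 3) (Fin 3) F, N * N * N + N + 1 = 0 →
        aeval (Matrix.toLinAlgEquiv b N) (X ^ 3 + X + 1 : F[X]) = 0 := by
      intro N hN
      simp only [map_add, map_pow, aeval_X, map_one]
      have h1 := congrArg (Matrix.toLinAlgEquiv b) hN
      rw [map_add, map_add, map_mul, map_mul, map_one, map_zero] at h1
      rw [← h1, pow_three, mul_assoc]
    have hB := hkill _ hN1
    have hD := hkill _ hM1
    refine ⟨Matrix.toLinAlgEquiv b (A * M), Matrix.toLinAlgEquiv b M, ?_, ?_, ?_, ?_, ?_⟩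
    · intro y
      rw [map_mul, ← hT]; rfl
    · intro y
      rw [pow_zero, one_mul, hB]; rfl
    · intro y
      rw [pow_zero, one_mul, hD]; rfl
    · exact dvd_of_irreducible_kill _ _ (cubic_two_irreducible hq) cubic_two_monic hB
    · exact dvd_of_irreducible_kill _ _ (cubic_two_irreducible hq) cubic_two_monic hD
  · exfalso
    rcases two_elem hq a with rfl | rfl
    · -- `S` has rank at most one
      have h1 : LinearMap.range S ≤ ⊥ ⊔ Submodule.span F {x} := by
        rintro _ ⟨y, rfl⟩
        rw [bot_sup_eq, hS, zero_smul, zero_add]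
        exact Submodule.smul_mem _ _ (Submodule.mem_span_singleton_self x)
      have h2 := Submodule.finrank_mono h1
      have h3 := finrank_sup_span_le (⊥ : Submodule F V) x
      rw [finrank_bot] at h3
      have hu : IsUnit (LinearMap.det S) := by rw [hdet]; exact isUnit_one
      have h4 : LinearMap.range S = ⊤ := by
        rw [LinearMap.range_eq_top]
        intro y
        refine ⟨(LinearMap.equivOfIsUnitDet hu).symm y, ?_⟩
        rw [← LinearMap.equivOfIsUnitDet_apply hu, LinearEquiv.apply_symm_apply]
      rw [h4, finrank_top] at h2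
      omega
    · have h1 : LinearMap.range (S - 1) ≤ ⊥ ⊔ Submodule.span F {x} := by
        rintro _ ⟨y, rfl⟩
        rw [bot_sup_eq, LinearMap.sub_apply, Module.End.one_apply, hS, one_smul, add_sub_cancel_left]
        exact Submodule.smul_mem _ _ (Submodule.mem_span_singleton_self x)
      have h2 := Submodule.finrank_mono h1
      have h3 := finrank_sup_span_le (⊥ : Submodule F V) x
      rw [finrank_bot] at h3
      omega

end Cfsg.Agent.H141.Ore
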