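import Mathlib

/-!
# Commutators in `SL(V)`: the algebraic core (helper141, S2444)

`IsComm S` : the endomorphism `S` of the finite-dimensional space `V` is a commutator
`X D X⁻¹ D⁻¹` with `det X = det D = 1`.

`Pair S B D e j` : `S D = B`, both `B` and `D` are killed by `(X - 1) ^ j * e`, and `e` divides
every polynomial killing `B` or `D`.
-/

set_option autoImplicit false

namespace Cfsg.Agent.H141.Ore

open Polynomial Module

section Basic

variable {F : Type*} [Field F] {V : Type*} [AddCommGroup V] [Module F V]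

/-- `S` is a commutator of elements of determinant one. -/
def IsComm (S : Module.End F V) : Prop :=
  ∃ X D : V ≃ₗ[F] V, LinearMap.det (X : V →ₗ[F] V) = 1 ∧ LinearMap.det (D : V →ₗ[F] V) = 1 ∧
    ∀ x, S x = X (D (X.symm (D.symm x)))

theorem aeval_intertwine {W : Type*} [AddCommGroup W] [Module F W] {A : Module.End F V}
    {B : Module.End F W} (f : V →ₗ[F] W) (h : ∀ x, f (A x) = B (f x)) (p : F[X]) (x : V) :
    f (aeval A p x) = aeval B p (f x) := by
  induction p using Polynomial.induction_on' with
  | add p q hp hq => simp only [map_add, LinearMap.add_apply, hp, hq]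
  | monomial n a =>
    simp only [aeval_monomial, Module.End.mul_apply, Module.algebraMap_end_apply, map_smul]
    congr 1
    induction n with
    | zero => simp
    | succ n ih => rw [pow_succ', pow_succ', Module.End.mul_apply, Module.End.mul_apply, h, ih]

theorem aeval_scalar (β : F) (p : F[X]) (y : F) :
    aeval (algebraMap F (Module.End F F) β) p y = p.eval β * y := by
  rw [aeval_algebraMap_apply]
  simp [aeval_def, eval₂_eq_eval_map]

theorem mul_apply' (A : Module.End F V) (p q : F[X]) (x : V) :
    aeval A (p * q) x = aeval A p (aeval A q x) := by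
  rw [map_mul, Module.End.mul_apply]

theorem mul_apply_comm (A : Module.End F V) (p q : F[X]) (x : V) :
    aeval A (p * q) x = aeval A q (aeval A p x) := by
  rw [mul_comm, mul_apply']

end Basic

section Conj

variable {F V W : Type*} [Field F] [AddCommGroup V] [Module F V] [FiniteDimensional F V]
  [AddCommGroup W] [Module F W] [FiniteDimensional F W]

/-- A cyclic module (proof of helper954). -/
theorem exists_equiv_quot (x : Module.End F V) (hx : (minpoly F x).natDegree = finrank F V) :
    Nonempty ((F[X] ⧸ Ideal.span {minpoly F x}) ≃ₗ[F[X]] Module.AEval' x) := by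
  obtain ⟨v, hv⟩ := Module.exists_ker_toSpanSingleton_eq_annihilator F[X] (Module.AEval' x)
  have hsp : Ideal.span {minpoly F x} =
      LinearMap.ker (LinearMap.toSpanSingleton F[X] (Module.AEval' x) v) := by
    rw [hv, span_minpoly_eq_annihilator]
  let g : (F[X] ⧸ Ideal.span {minpoly F x}) →ₗ[F[X]] Module.AEval' x :=
    Submodule.liftQ _ (LinearMap.toSpanSingleton F[X] (Module.AEval' x) v) hsp.le
  have hg : LinearMap.ker g = ⊥ := Submodule.ker_liftQ_eq_bot' _ _ hsp
  have hmp : minpoly F x ≠ 0 := minpoly.ne_zero (Algebra.IsIntegral.isIntegral x)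
  have hfin : FiniteDimensional F (F[X] ⧸ Ideal.span {minpoly F x}) :=
    (AdjoinRoot.powerBasis hmp).finite
  have h1 : finrank F (F[X] ⧸ Ideal.span {minpoly F x}) = finrank F (Module.AEval' x) := by
    have : finrank F (F[X] ⧸ Ideal.span {minpoly F x}) = (minpoly F x).natDegree :=
      finrank_quotient_span_eq_natDegree
    rw [this, hx]
    exact (Module.AEval'.of x).finrank_eq
  have hbij : Function.Bijective (g.restrictScalars F) := by
    have hinj' : Function.Injective g := LinearMap.ker_eq_bot.1 hg
    have hinj : Function.Injective (g.restrictScalars F) := hinj'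
    exact ⟨hinj, (LinearMap.injective_iff_surjective_of_finrank_eq_finrank h1).1 hinj⟩
  exact ⟨LinearEquiv.ofBijective g hbij⟩

/-- Endomorphisms with the same minimal polynomial of maximal degree are conjugate
(proof of helper954). -/
theorem exists_equiv_minpoly (x : Module.End F V) (y : Module.End F W) (hxy : minpoly F x = minpoly F y)
    (hx : (minpoly F x).natDegree = finrank F V) (hy : (minpoly F y).natDegree = finrank F W) :
    ∃ e : V ≃ₗ[F] W, ∀ v, e (x v) = y (e v) := by
  obtain ⟨e1⟩ := exists_equiv_quot x hx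
  obtain ⟨e2⟩ := exists_equiv_quot y hy
  rw [← hxy] at e2
  let e : Module.AEval' x ≃ₗ[F[X]] Module.AEval' y := e1.symm.trans e2
  refine ⟨((Module.AEval'.of x).trans (e.restrictScalars F)).trans (Module.AEval'.of y).symm, fun v => ?_⟩
  simp only [LinearEquiv.trans_apply, LinearEquiv.restrictScalars_apply]
  rw [← Module.AEval'.X_smul_of, map_smul, LinearEquiv.symm_apply_eq, ← Module.AEval'.X_smul_of,
    LinearEquiv.apply_symm_apply]

end Conj

section DetControl

variable {F V : Type*} [Field F] [AddCommGroup V] [Module F V] [FiniteDimensional F V]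

/-- If `(X - b) m` kills `D`, `m(D) ≠ 0` and `m(b) ≠ 0`, then the centralizer of `D` contains
elements of any nonzero determinant. -/
theorem exists_centralizer_det (D : Module.End F V) (b : F) (m : F[X])
    (h0 : ∀ x, aeval D ((X - C b) * m) x = 0) (hm : aeval D m ≠ 0) (hb : m.eval b ≠ 0) (t : F)
    (ht : t ≠ 0) :
    ∃ Z : V ≃ₗ[F] V, LinearMap.det (Z : V →ₗ[F] V) = t ∧ ∀ x, Z (D x) = D (Z x) := by
  obtain ⟨x0, hx0⟩ : ∃ x0, aeval D m x0 ≠ 0 := by
    by_contra h
    push Not at h
    exact hm (LinearMap.ext h)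
  set u := aeval D m x0 with hu
  have hDm : ∀ x, D (aeval D m x) = b • aeval D m x := by
    intro x
    have := h0 x
    rw [mul_apply'] at this
    simp only [map_sub, aeval_X, aeval_C, LinearMap.sub_apply, Module.algebraMap_end_apply] at this
    exact sub_eq_zero.1 this
  have hDm' : ∀ x, aeval D m (D x) = b • aeval D m x := by
    intro x
    rw [← hDm]
    have h1 : aeval D m (D x) = aeval D (m * X) x := by rw [mul_apply', aeval_X]
    have h2 : D (aeval D m x) = aeval D (X * m) x := by rw [mul_apply', aeval_X]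
    rw [h1, h2, mul_comm]
  have hmm : ∀ (p : F[X]) (x : V), aeval D p (aeval D m x) = p.eval b • aeval D m x := by
    intro p x
    have h1 := aeval_intertwine (A := algebraMap F (Module.End F F) b) (B := D)
      (LinearMap.toSpanSingleton F V (aeval D m x)) (by
        intro y
        simp only [LinearMap.toSpanSingleton_apply, map_smul, hDm, Module.algebraMap_end_apply,
          smul_eq_mul]
        rw [smul_smul, mul_comm]) p 1
    rw [aeval_scalar] at h1
    simpa using h1.symm
  obtain ⟨ξ, hξ⟩ : ∃ ξ : V →ₗ[F] F, ξ u = 1 := Projective.exists_dual_eq_one F hx0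
  set ψ : V →ₗ[F] F := ξ ∘ₗ (aeval D m) with hψ
  have hψD : ∀ x, ψ (D x) = b * ψ x := by
    intro x
    simp only [hψ, LinearMap.comp_apply, hDm', map_smul, smul_eq_mul]
  have hψu : ψ u = m.eval b := by
    simp only [hψ, LinearMap.comp_apply]
    rw [hu, hmm, map_smul, ← hu, hξ, smul_eq_mul, mul_one]
  set s : F := (t - 1) / m.eval b with hs
  have hdet : LinearMap.det (LinearMap.transvection ψ (s • u)) = t := by
    rw [LinearMap.transvection.det, map_smul, hψu, smul_eq_mul, hs, div_mul_cancel₀ _ hb]
    ring
  have hunit : IsUnit (LinearMap.det (LinearMap.transvection ψ (s • u))) := by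
    rw [hdet]; exact isUnit_iff_ne_zero.2 ht
  refine ⟨LinearMap.equivOfIsUnitDet hunit, ?_, ?_⟩
  · rw [LinearMap.coe_equivOfIsUnitDet, hdet]
  · intro x
    rw [LinearMap.equivOfIsUnitDet_apply, LinearMap.equivOfIsUnitDet_apply]
    rw [LinearMap.transvection.apply, LinearMap.transvection.apply, hψD, map_add, map_smul, map_smul,
      hu, hDm]
    congr 1
    simp only [smul_smul]
    congr 1
    ring

/-- A matrix with given cyclic structure has determinant `±` the constant coefficient. -/
theorem det_of_minpoly (D : Module.End F V) (p : F[X]) (hD : minpoly F D = p)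
    (hdeg : p.natDegree = finrank F V) : LinearMap.det D = (-1) ^ (finrank F V) * p.coeff 0 := by
  have hp : p.Monic := by
    rw [← hD]; exact minpoly.monic (Algebra.IsIntegral.isIntegral D)
  have h1 : D.charpoly = p := by
    apply Polynomial.eq_of_monic_of_dvd_of_natDegree_le hp (LinearMap.charpoly_monic D)
    · rw [← hD]; exact LinearMap.minpoly_dvd_charpoly D
    · rw [LinearMap.charpoly_natDegree, hdeg]
  rw [← h1]
  exact LinearMap.det_eq_sign_charpoly_coeff D

/-- The criterion: `S D = B` with `D`, `B` cyclic with the same minimal polynomial. -/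
theorem isComm_of_cyclic (S B D : Module.End F V) (p : F[X]) (hB : minpoly F B = p)
    (hD : minpoly F D = p) (hdeg : p.natDegree = finrank F V) (hSD : ∀ x, S (D x) = B x)
    (hdet : (-1) ^ (finrank F V) * p.coeff 0 = 1)
    (hc : ∀ t : F, t ≠ 0 → ∃ Z : V ≃ₗ[F] V, LinearMap.det (Z : V →ₗ[F] V) = t ∧ ∀ x, Z (D x) = D (Z x)) :
    IsComm S := by
  obtain ⟨X0, hX0⟩ := exists_equiv_minpoly D B (hD.trans hB.symm) (by rw [hD, hdeg]) (by rw [hB, hdeg])
  have hd0 : LinearMap.det (X0 : V →ₗ[F] V) ≠ 0 := by
    have := LinearEquiv.isUnit_det' X0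
    exact this.ne_zero
  obtain ⟨Z, hZ, hZD⟩ := hc _ (inv_ne_zero hd0)
  have hdetD : LinearMap.det D = 1 := by rw [det_of_minpoly D p hD hdeg, hdet]
  have hunit : IsUnit (LinearMap.det D) := by rw [hdetD]; exact isUnit_one
  set De : V ≃ₗ[F] V := LinearMap.equivOfIsUnitDet hunit with hDe
  have hDe' : ∀ x, De x = D x := fun x => LinearMap.equivOfIsUnitDet_apply hunit x
  refine ⟨Z.trans X0, De, ?_, ?_, ?_⟩
  · have : ((Z.trans X0 : V ≃ₗ[F] V) : V →ₗ[F] V) = (X0 : V →ₗ[F] V) ∘ₗ (Z : V →ₗ[F] V) := rfl
    rw [this, LinearMap.det_comp, hZ, mul_inv_cancel₀ hd0]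
  · rw [hDe, LinearMap.coe_equivOfIsUnitDet, hdetD]
  · intro x
    obtain ⟨y, rfl⟩ := De.surjective x
    rw [LinearEquiv.symm_apply_apply]
    obtain ⟨z, rfl⟩ := (Z.trans X0).surjective y
    rw [LinearEquiv.symm_apply_apply, hDe', hDe', hSD]
    simp only [LinearEquiv.trans_apply]
    rw [← hX0, hZD]

end DetControl

end Cfsg.Agent.H141.Ore
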