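import Cfsg.Agent.H141.Ore.Pair

/-!
# Counting lemmas (helper141, S2444)
-/

set_option autoImplicit false
set_option linter.unusedSectionVars false

namespace Cfsg.Agent.H141.Ore

open Module

variable {F : Type*} [Field F] [Finite F] {V : Type*} [AddCommGroup V] [Module F V]
  [FiniteDimensional F V]

theorem card_submodule (A : Submodule F V) : Nat.card A = Nat.card F ^ finrank F A :=
  Module.natCard_eq_pow_finrank

/-- an affine hyperplane is not covered by three small subspaces -/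
theorem exists_avoid (r : V →ₗ[F] F) (hr : r ≠ 0) (H₁ H₂ H₃ : Submodule F V)
    (h : Nat.card H₁ + Nat.card H₂ + Nat.card H₃ < Nat.card V) :
    ∃ v, r v = 1 ∧ v ∉ H₁ ∧ v ∉ H₂ ∧ v ∉ H₃ := by
  have hfin : Finite V := Module.finite_of_finite F
  have key : ∀ H : Submodule F V, Nat.card F * {x : V | r x = 1 ∧ x ∈ H}.ncard ≤ Nat.card H := by
    intro H
    rcases Set.eq_empty_or_nonempty {x : V | r x = 1 ∧ x ∈ H} with h0 | ⟨x1, hx1, hx1H⟩
    · rw [h0]; simp
    · rw [← Nat.card_coe_set_eq, ← Nat.card_prod]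
      refine Nat.card_le_card_of_injective
        (fun p : F × {x : V | r x = 1 ∧ x ∈ H} => (⟨(p.2 : V) - x1 + p.1 • x1,
          add_mem (sub_mem p.2.2.2 hx1H) (Submodule.smul_mem _ _ hx1H)⟩ : H)) ?_
      rintro ⟨a, x, hx, hxH⟩ ⟨b, y, hy, hyH⟩ hab
      have h1 : x - x1 + a • x1 = y - x1 + b • x1 := congrArg Subtype.val hab
      have h2 : a = b := by
        have := congrArg r h1
        simpa [hx, hy, hx1] using this
      subst h2
      have h3 : x = y := by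
        have := add_right_cancel h1
        exact sub_left_injective this
      subst h3
      rfl
  obtain ⟨x0, hx0⟩ : ∃ x0, r x0 = 1 := by
    obtain ⟨x, hx⟩ : ∃ x, r x ≠ 0 := by
      by_contra hcon
      push Not at hcon
      exact hr (LinearMap.ext hcon)
    exact ⟨(r x)⁻¹ • x, by rw [map_smul, smul_eq_mul, inv_mul_cancel₀ hx]⟩
  have key2 : Nat.card V ≤ Nat.card F * {x : V | r x = 1}.ncard := by
    rw [← Nat.card_coe_set_eq, ← Nat.card_prod]
    refine Nat.card_le_card_of_injective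
      (fun y : V => ((r y, ⟨y - r y • x0 + x0, by simp [hx0]⟩) : F × {x : V | r x = 1})) ?_
    intro y z hyz
    simp only [Prod.mk.injEq, Subtype.mk.injEq] at hyz
    obtain ⟨h1, h2⟩ := hyz
    rw [h1] at h2
    exact sub_left_injective (add_right_cancel h2)
  by_contra hcon
  push Not at hcon
  have hsub : {x : V | r x = 1} ⊆ ({x : V | r x = 1 ∧ x ∈ H₁} ∪ {x : V | r x = 1 ∧ x ∈ H₂}) ∪
      {x : V | r x = 1 ∧ x ∈ H₃} := by
    intro x hx
    by_cases h1 : x ∈ H₁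
    · exact Or.inl (Or.inl ⟨hx, h1⟩)
    · by_cases h2 : x ∈ H₂
      · exact Or.inl (Or.inr ⟨hx, h2⟩)
      · exact Or.inr ⟨hx, hcon x hx h1 h2⟩
  have h1 := Set.ncard_le_ncard hsub (Set.toFinite _)
  have h2 := Set.ncard_union_le ({x : V | r x = 1 ∧ x ∈ H₁} ∪ {x : V | r x = 1 ∧ x ∈ H₂})
    {x : V | r x = 1 ∧ x ∈ H₃}
  have h3 := Set.ncard_union_le {x : V | r x = 1 ∧ x ∈ H₁} {x : V | r x = 1 ∧ x ∈ H₂}
  have h4 := key H₁
  have h5 := key H₂
  have h6 := key H₃
  have h7 : Nat.card F * {x : V | r x = 1}.ncard ≤ Nat.card F * ({x : V | r x = 1 ∧ x ∈ H₁}.ncard +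
    {x : V | r x = 1 ∧ x ∈ H₂}.ncard + {x : V | r x = 1 ∧ x ∈ H₃}.ncard) :=
    Nat.mul_le_mul_left _ (by omega)
  rw [mul_add, mul_add] at h7
  omega

theorem finite_dual : Finite (V →ₗ[F] F) := by
  have : Finite V := Module.finite_of_finite F
  exact Finite.of_injective (fun φ : V →ₗ[F] F => (φ : V → F)) DFunLike.coe_injective

theorem card_dualAnnihilator (A : Submodule F V) :
    Nat.card A.dualAnnihilator = Nat.card F ^ (finrank F V - finrank F A) := by
  rw [Module.natCard_eq_pow_finrank (K := F)]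
  congr 1
  have := Subspace.finrank_add_finrank_dualAnnihilator_eq A
  omega

theorem ncard_scalars (S : Module.End F V) (v : V) (hne : S v ≠ v) :
    {φ : V →ₗ[F] F | φ v = 1 ∧ ∃ hSv : φ (S v) = 1, ∃ a : F, a ≠ 0 ∧ a ≠ 1 ∧
      ∀ w, schur S φ v hSv w = a • w}.ncard ≤ Nat.card F - 2 := by
  have hfin : Finite (V →ₗ[F] F) := finite_dual
  set T := {φ : V →ₗ[F] F | φ v = 1 ∧ ∃ hSv : φ (S v) = 1, ∃ a : F, a ≠ 0 ∧ a ≠ 1 ∧
      ∀ w, schur S φ v hSv w = a • w} with hT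
  have h1 : ∀ φ : V →ₗ[F] F, ∃ a : F, φ ∈ T → a ≠ 0 ∧ a ≠ 1 ∧
      ∀ hSv : φ (S v) = 1, ∀ w, schur S φ v hSv w = a • w := by
    intro φ
    by_cases h : φ ∈ T
    · obtain ⟨_, hSv, a, ha0, ha1, ha⟩ := h
      exact ⟨a, fun _ => ⟨ha0, ha1, fun _ => ha⟩⟩
    · exact ⟨0, fun h' => absurd h' h⟩
  choose f hf using h1
  have h2 : T.ncard ≤ ({0, 1}ᶜ : Set F).ncard := by
    refine Set.ncard_le_ncard_of_injOn f ?_ ?_ (Set.toFinite _)
    · intro φ hφ
      obtain ⟨h0, h1, -⟩ := hf φ hφ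
      simp [h0, h1]
    · intro φ hφ ψ hψ hfe
      obtain ⟨a0, a1, ha⟩ := hf φ hφ
      obtain ⟨b0, b1, hb⟩ := hf ψ hψ
      obtain ⟨hφv, hφS, -⟩ := hφ
      obtain ⟨hψv, hψS, -⟩ := hψ
      rw [hfe] at ha
      exact schur_scalar_unique S φ ψ v hφv hψv hφS hψS hne (f ψ) b0 (ha hφS) (hb hψS)
  have h3 : ({0, 1} : Set F).ncard = 2 := Set.ncard_pair zero_ne_one
  have h4 := Set.ncard_add_ncard_compl ({0, 1} : Set F)
  omega

/-- a functional with prescribed values -/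
theorem exists_functional (n v c : V) (hv : v ∉ Submodule.span F {n}) (hc : c ∉ Submodule.span F {n}) :
    ∃ φ : V →ₗ[F] F, φ n = 0 ∧ φ v = 1 ∧ φ c ≠ 0 := by
  have hmem : n ∈ Submodule.span F {n} := Submodule.mem_span_singleton_self n
  obtain ⟨f, hf, hfn⟩ := Submodule.exists_le_ker_of_notMem hv
  obtain ⟨g, hg, hgn⟩ := Submodule.exists_le_ker_of_notMem hc
  have hfn' : f n = 0 := hfn hmem
  have hgn' : g n = 0 := hgn hmem
  by_cases h1 : f c = 0
  · by_cases h2 : g v = 0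
    · refine ⟨(f v)⁻¹ • f + g, ?_, ?_, ?_⟩
      · simp [hfn', hgn']
      · simp [h2, hf]
      · simp [h1, hg]
    · refine ⟨(g v)⁻¹ • g, ?_, ?_, ?_⟩
      · simp [hgn']
      · simp [h2]
      · simp [h2, hg]
  · refine ⟨(f v)⁻¹ • f, ?_, ?_, ?_⟩
    · simp [hfn']
    · simp [hf]
    · simp [h1, hf]

/-- choice of the functional -/
theorem exists_phi (S : Module.End F V) (v c : V) (hvn : v ∉ Submodule.span F {S v - v})
    (hcn : c ∉ Submodule.span F {S v - v}) (hne : S v ≠ v) (A₁ A₂ : Submodule F V) (m₁ m₂ : ℕ)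
    (h₁ : (v ∈ A₁ ∨ c ∈ A₁) ∨
      Nat.card F ^ (finrank F V - finrank F ↥(A₁ ⊔ Submodule.span F {v, c})) ≤ m₁)
    (h₂ : (v ∈ A₂ ∨ c ∈ A₂) ∨
      Nat.card F ^ (finrank F V - finrank F ↥(A₂ ⊔ Submodule.span F {v, c})) ≤ m₂)
    (hcount : m₁ + m₂ + (Nat.card F - 2) < Nat.card F ^ (finrank F V - 3)) :
    ∃ (φ : V →ₗ[F] F) (_ : φ v = 1) (hSv : φ (S v) = 1), φ c ≠ 0 ∧ (∃ x ∈ A₁, φ x ≠ 0) ∧
      (∃ x ∈ A₂, φ x ≠ 0) ∧ ∀ a : F, a ≠ 0 → a ≠ 1 → ∃ w, schur S φ v hSv w ≠ a • w := by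
  have hfin : Finite (V →ₗ[F] F) := finite_dual
  obtain ⟨φ₀, h0n, h0v, h0c⟩ := exists_functional (S v - v) v c hvn hcn
  set P : Set (V →ₗ[F] F) := {φ | φ (S v - v) = 0 ∧ φ v = 1 ∧ φ c = φ₀ c} with hP
  have hPcard : Nat.card F ^ (finrank F V - 3) ≤ P.ncard := by
    set K := (Submodule.span F {S v - v, v, c}).dualAnnihilator with hK
    have h1 : Nat.card K ≤ P.ncard := by
      rw [← Nat.card_coe_set_eq]
      have hmem : ∀ ψ : K, ((ψ : V →ₗ[F] F) + φ₀) ∈ P := by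
        intro ψ
        have h2 := (Submodule.mem_dualAnnihilator _).1 ψ.2
        have e1 : (ψ : V →ₗ[F] F) (S v - v) = 0 := h2 _ (Submodule.subset_span (by simp))
        have e2 : (ψ : V →ₗ[F] F) v = 0 := h2 _ (Submodule.subset_span (by simp))
        have e3 : (ψ : V →ₗ[F] F) c = 0 := h2 _ (Submodule.subset_span (by simp))
        refine ⟨?_, ?_, ?_⟩
        · rw [LinearMap.add_apply, e1, h0n, add_zero]
        · rw [LinearMap.add_apply, e2, h0v, zero_add]
        · rw [LinearMap.add_apply, e3, zero_add]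
      refine Nat.card_le_card_of_injective (fun ψ : K => (⟨(ψ : V →ₗ[F] F) + φ₀, hmem ψ⟩ : P)) ?_
      intro ψ₁ ψ₂ h
      have h3 : (ψ₁ : V →ₗ[F] F) + φ₀ = (ψ₂ : V →ₗ[F] F) + φ₀ := congrArg Subtype.val h
      exact Subtype.ext (add_right_cancel h3)
    refine le_trans ?_ h1
    rw [hK, card_dualAnnihilator]
    apply Nat.pow_le_pow_right Nat.card_pos
    have h4 : finrank F (Submodule.span F {S v - v, v, c}) ≤ 3 := by
      classical
      have := finrank_span_finset_le_card (R := F) ({S v - v, v, c} : Finset V)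
      have h5 := Finset.card_le_three (a := S v - v) (b := v) (c := c)
      have h6 : ((({S v - v, v, c} : Finset V)) : Set V) = {S v - v, v, c} := by simp
      rw [h6] at this
      exact this.trans h5
    omega
  have hA : ∀ (A : Submodule F V) (m : ℕ), ((v ∈ A ∨ c ∈ A) ∨
      Nat.card F ^ (finrank F V - finrank F ↥(A ⊔ Submodule.span F {v, c})) ≤ m) →
      {φ ∈ P | ∀ x ∈ A, φ x = 0}.ncard ≤ m := by
    intro A m hm
    rcases Set.eq_empty_or_nonempty {φ ∈ P | ∀ x ∈ A, φ x = 0} with he | ⟨φ₁, hφ₁, hφ₁A⟩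
    · rw [he]; simp
    · rcases hm with hm | hm
      · exfalso
        rcases hm with hm | hm
        · have := hφ₁A v hm
          rw [hφ₁.2.1] at this
          exact one_ne_zero this
        · have := hφ₁A c hm
          rw [hφ₁.2.2] at this
          exact h0c this
      · refine le_trans ?_ hm
        rw [← card_dualAnnihilator, ← Nat.card_coe_set_eq]
        have hmem : ∀ φ : {φ ∈ P | ∀ x ∈ A, φ x = 0}, ((φ : V →ₗ[F] F) - φ₁) ∈
            (A ⊔ Submodule.span F {v, c}).dualAnnihilator := by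
          rintro ⟨φ, ⟨h1, h2, h3⟩, h4⟩
          rw [Submodule.dualAnnihilator_sup_eq, Submodule.mem_inf]
          constructor
          · rw [Submodule.mem_dualAnnihilator]
            intro x hx
            rw [LinearMap.sub_apply, h4 x hx, hφ₁A x hx, sub_zero]
          · rw [Submodule.mem_dualAnnihilator]
            intro x hx
            induction hx using Submodule.span_induction with
            | mem x hx =>
              rcases hx with rfl | rfl
              · rw [LinearMap.sub_apply, h2, hφ₁.2.1, sub_self]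
              · rw [LinearMap.sub_apply, h3, hφ₁.2.2, sub_self]
            | zero => exact map_zero _
            | add x y _ _ hx hy => rw [map_add, hx, hy, add_zero]
            | smul a x _ hx => rw [map_smul, hx, smul_zero]
        refine Nat.card_le_card_of_injective (fun φ => (⟨_, hmem φ⟩ :
          (A ⊔ Submodule.span F {v, c}).dualAnnihilator)) ?_
        intro ψ₁ ψ₂ h
        have h3 : (ψ₁ : V →ₗ[F] F) - φ₁ = (ψ₂ : V →ₗ[F] F) - φ₁ := congrArg Subtype.val h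
        exact Subtype.ext (sub_left_injective h3)
  have hT := ncard_scalars S v hne
  set T := {φ : V →ₗ[F] F | φ v = 1 ∧ ∃ hSv : φ (S v) = 1, ∃ a : F, a ≠ 0 ∧ a ≠ 1 ∧
      ∀ w, schur S φ v hSv w = a • w} with hTdef
  have h1 := hA A₁ m₁ h₁
  have h2 := hA A₂ m₂ h₂
  have hlt : (({φ ∈ P | ∀ x ∈ A₁, φ x = 0} ∪ {φ ∈ P | ∀ x ∈ A₂, φ x = 0}) ∪ T).ncard < P.ncard := by
    have e1 := Set.ncard_union_le ({φ ∈ P | ∀ x ∈ A₁, φ x = 0} ∪ {φ ∈ P | ∀ x ∈ A₂, φ x = 0}) T
    have e2 := Set.ncard_union_le {φ ∈ P | ∀ x ∈ A₁, φ x = 0} {φ ∈ P | ∀ x ∈ A₂, φ x = 0}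
    omega
  obtain ⟨φ, hφP, hφ⟩ := Set.exists_mem_notMem_of_ncard_lt_ncard hlt (Set.toFinite _)
  obtain ⟨hn0, hφv, hφc⟩ := hφP
  have hφS : φ (S v) = 1 := by
    rw [map_sub, hφv] at hn0
    exact sub_eq_zero.1 hn0
  refine ⟨φ, hφv, hφS, ?_, ?_, ?_, ?_⟩
  · rw [hφc]; exact h0c
  · by_contra hcon
    push Not at hcon
    exact hφ (Or.inl (Or.inl ⟨⟨hn0, hφv, hφc⟩, hcon⟩))
  · by_contra hcon
    push Not at hcon
    exact hφ (Or.inl (Or.inr ⟨⟨hn0, hφv, hφc⟩, hcon⟩))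
  · intro a ha0 ha1
    by_contra hcon
    push Not at hcon
    exact hφ (Or.inr ⟨hφv, hφS, a, ha0, ha1, hcon⟩)

end Cfsg.Agent.H141.Ore
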