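import Cfsg.Agent.H141.Ore.Induct

/-!
# Dimension three: cyclic or scalar plus rank one; trace of the Schur complement (helper141, S2444)
-/

set_option autoImplicit false
set_option linter.unusedSectionVars false

namespace Cfsg.Agent.H141.Ore

open Module Polynomial

variable {F : Type*} [Field F] {V : Type*} [AddCommGroup V] [Module F V] [FiniteDimensional F V]

theorem exists_rank_one (N : Module.End F V) (h : finrank F (LinearMap.range N) ≤ 1) :
    ∃ (x : V) (ψ : V →ₗ[F] F), ∀ y, N y = ψ y • x := by
  obtain ⟨⟨x, hxr⟩, hx⟩ := finrank_le_one_iff.1 h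
  by_cases hx0 : x = 0
  · refine ⟨0, 0, fun y => ?_⟩
    obtain ⟨c, hc⟩ := hx ⟨N y, LinearMap.mem_range_self N y⟩
    have h1 : c • x = N y := congrArg Subtype.val hc
    rw [← h1, hx0, smul_zero, smul_zero]
  · obtain ⟨ξ, hξ⟩ : ∃ ξ : V →ₗ[F] F, ξ x = 1 := Projective.exists_dual_eq_one F hx0
    refine ⟨x, ξ ∘ₗ N, fun y => ?_⟩
    obtain ⟨c, hc⟩ := hx ⟨N y, LinearMap.mem_range_self N y⟩
    have h1 : c • x = N y := congrArg Subtype.val hc
    rw [LinearMap.comp_apply, ← h1, map_smul, hξ, smul_eq_mul, mul_one]

theorem exists_cyclic_vector (S : Module.End F V) :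
    ∃ v : V, ∀ p : F[X], aeval S p v = 0 → minpoly F S ∣ p := by
  obtain ⟨v, hv⟩ := Module.exists_ker_toSpanSingleton_eq_annihilator F[X] (Module.AEval' S)
  refine ⟨(Module.AEval'.of S).symm v, fun p hp => ?_⟩
  have h1 : p • v = 0 := by
    obtain ⟨w, rfl⟩ := (Module.AEval'.of S).surjective v
    rw [LinearEquiv.symm_apply_apply] at hp
    rw [← Module.AEval.of_aeval_smul]
    have : (aeval S p • w : V) = aeval S p w := rfl
    rw [this, hp, map_zero]
  have h2 : p ∈ LinearMap.ker (LinearMap.toSpanSingleton F[X] (Module.AEval' S) v) := by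
    rw [LinearMap.mem_ker, LinearMap.toSpanSingleton_apply, h1]
  rw [hv, ← span_minpoly_eq_annihilator, Ideal.mem_span_singleton] at h2
  exact h2

theorem cyclic_or_rank_one (S : Module.End F V) (hk : finrank F V = 3) (hns : NonScalar S) :
    (∃ v, LinearIndependent F ![v, S v, S (S v)]) ∨
    ∃ (a : F) (x : V) (ψ : V →ₗ[F] F), ∀ y, S y = a • y + ψ y • x := by
  have hm : (minpoly F S).Monic := minpoly.monic (Algebra.IsIntegral.isIntegral S)
  have hdvd := LinearMap.minpoly_dvd_charpoly S
  have hχ : S.charpoly.natDegree = 3 := by rw [LinearMap.charpoly_natDegree, hk]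
  have hle : (minpoly F S).natDegree ≤ 3 := by
    rw [← hχ]
    exact natDegree_le_of_dvd hdvd (LinearMap.charpoly_monic S).ne_zero
  have hnotone : ∀ a : F, minpoly F S ≠ X - C a := by
    intro a h
    obtain ⟨x, hx⟩ := hns a
    apply hx
    have h1 := minpoly.aeval F S
    rw [h] at h1
    have h2 := LinearMap.congr_fun h1 x
    simp only [map_sub, aeval_X, aeval_C, LinearMap.sub_apply, Module.algebraMap_end_apply,
      LinearMap.zero_apply] at h2
    exact sub_eq_zero.1 h2
  rcases Nat.lt_or_ge (minpoly F S).natDegree 3 with h3 | h3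
  · right
    have hpos : 0 < (minpoly F S).natDegree := by
      have : Nontrivial V := Module.nontrivial_of_finrank_pos (R := F) (by omega)
      exact minpoly.natDegree_pos (Algebra.IsIntegral.isIntegral S)
    have h2 : (minpoly F S).natDegree = 2 := by
      rcases Nat.lt_or_ge (minpoly F S).natDegree 2 with h | h
      · exfalso
        have h1 : (minpoly F S).natDegree = 1 := by omega
        have := hm.eq_X_add_C h1
        apply hnotone (-(minpoly F S).coeff 0)
        rw [this]; simp
      · omega
    obtain ⟨l, hl⟩ := hdvd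
    have hldeg : l.natDegree = 1 := by
      have h4 : l.Monic := hm.of_mul_monic_left (by rw [← hl]; exact LinearMap.charpoly_monic S)
      rw [hl, hm.natDegree_mul h4] at hχ
      omega
    have hl' : l.degree = 1 := by
      have hl0 : l ≠ 0 := by
        rintro rfl
        simp at hldeg
      rw [degree_eq_natDegree hl0, hldeg]
      rfl
    obtain ⟨a, ha⟩ := exists_root_of_degree_eq_one hl'
    have hχa : S.charpoly.IsRoot a := by
      rw [hl, IsRoot, eval_mul, ha.eq_zero, mul_zero]
    have hma : (minpoly F S).IsRoot a := by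
      rw [← Module.End.hasEigenvalue_iff_isRoot]
      exact (Module.End.hasEigenvalue_iff_isRoot_charpoly S a).2 hχa
    obtain ⟨m1, hm1⟩ := dvd_iff_isRoot.2 hma
    have hm1m : m1.Monic := (monic_X_sub_C a).of_mul_monic_left (by rw [← hm1]; exact hm)
    have hm1d : m1.natDegree = 1 := by
      rw [hm1, (monic_X_sub_C a).natDegree_mul hm1m, natDegree_X_sub_C] at h2
      omega
    obtain ⟨μ, hμ⟩ : ∃ μ, m1 = X - C μ := ⟨-m1.coeff 0, by
      have := hm1m.eq_X_add_C hm1d
      rw [map_neg, sub_neg_eq_add]
      exact this⟩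
    have hkill : ∀ y, (S - algebraMap F _ a) ((S - algebraMap F _ μ) y) = 0 := by
      intro y
      have h5 := minpoly.aeval F S
      rw [hm1, hμ, map_mul] at h5
      have h6 := LinearMap.congr_fun h5 y
      simpa using h6
    have hle2 : LinearMap.range (S - algebraMap F (Module.End F V) μ) ≤
        LinearMap.ker (S - algebraMap F (Module.End F V) a) := by
      rintro _ ⟨y, rfl⟩
      exact hkill y
    have h7 := Submodule.finrank_mono hle2
    have h8 := LinearMap.finrank_range_add_finrank_ker (S - algebraMap F (Module.End F V) a)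
    rcases Nat.lt_or_ge (finrank F (LinearMap.range (S - algebraMap F (Module.End F V) a))) 2
      with h9 | h9
    · obtain ⟨x, ψ, h⟩ := exists_rank_one _ (Nat.lt_succ_iff.1 h9)
      refine ⟨a, x, ψ, fun y => ?_⟩
      rw [← h]
      simp
    · obtain ⟨x, ψ, h⟩ := exists_rank_one (S - algebraMap F (Module.End F V) μ) (by omega)
      refine ⟨μ, x, ψ, fun y => ?_⟩
      rw [← h]
      simp
  · left
    obtain ⟨v, hv⟩ := exists_cyclic_vector S
    refine ⟨v, ?_⟩
    rw [Fintype.linearIndependent_iff]
    intro g hg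
    have h0 : aeval S (C (g 0) + C (g 1) * X + C (g 2) * X ^ 2) v = 0 := by
      simp only [Fin.sum_univ_three, Matrix.cons_val_zero, Matrix.cons_val_one, Matrix.cons_val_two,
        Matrix.head_cons, Matrix.tail_cons] at hg
      simpa [pow_two] using hg
    have h1 := hv _ h0
    have h2 : C (g 0) + C (g 1) * X + C (g 2) * X ^ 2 = 0 := by
      by_contra hne
      have h4 := natDegree_le_of_dvd h1 hne
      have h5 : (C (g 0) + C (g 1) * X + C (g 2) * X ^ 2).natDegree ≤ 2 := by compute_degree
      omega
    intro i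
    have e0 := congrArg (fun p : F[X] => p.coeff 0) h2
    have e1 := congrArg (fun p : F[X] => p.coeff 1) h2
    have e2 := congrArg (fun p : F[X] => p.coeff 2) h2
    simp [coeff_X, coeff_C] at e0 e1 e2
    fin_cases i
    · exact e0
    · exact e1
    · exact e2

theorem trace_toSpanSingleton_comp (x : V) (ψ : V →ₗ[F] F) :
    LinearMap.trace F V (LinearMap.toSpanSingleton F V x ∘ₗ ψ) = ψ x := by
  rw [LinearMap.trace_comp_comm']
  have : ψ ∘ₗ LinearMap.toSpanSingleton F V x = (ψ x) • LinearMap.id := by
    ext; simp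
  rw [this, map_smul, LinearMap.trace_id]
  simp

theorem trace_schur (S : Module.End F V) (φ : V →ₗ[F] F) (v : V) (hSv : φ (S v) = 1) :
    LinearMap.trace F (LinearMap.ker φ) (schur S φ v hSv) =
      LinearMap.trace F V S - φ (S (S v)) := by
  set T : Module.End F V := S - LinearMap.toSpanSingleton F V (S v) ∘ₗ φ ∘ₗ S with hT
  have hTx : ∀ x, T x ∈ LinearMap.ker φ := by
    intro x
    rw [LinearMap.mem_ker, hT]
    simp [hSv]
  have h1 := LinearMap.trace_restrict_eq_of_forall_mem (LinearMap.ker φ) T hTx
  have h2 : T.restrict (fun x _ => hTx x) = schur S φ v hSv := by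
    ext w
    rw [LinearMap.restrict_apply, coe_schur]
    simp [hT]
  rw [h2] at h1
  rw [h1, hT, map_sub, trace_toSpanSingleton_comp]
  simp

end Cfsg.Agent.H141.Ore
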