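import Cfsg.Agent.H141.Ore.Select

/-!
# The induction (helper141, S2444)
-/

set_option autoImplicit false

namespace Cfsg.Agent.H141.Ore

open Module Polynomial

universe u w

/-- the dimension three base case for the cubic `e` -/
def BaseHyp (F : Type u) [Field F] (e : F[X]) : Prop :=
  ∀ (V : Type w) [AddCommGroup V] [Module F V] [FiniteDimensional F V] (S : Module.End F V),
    finrank F V = 3 → LinearMap.det S = 1 → NonScalar S →
    2 ≤ finrank F (LinearMap.range (S - 1)) → ∃ B D : Module.End F V, Pair S B D e 0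

theorem induct {F : Type u} [Field F] [Finite F] (e : F[X]) (he : Good e)
    (hbase : BaseHyp.{u, w} F e) (i : ℕ) :
    ∀ (V : Type w) [AddCommGroup V] [Module F V] [FiniteDimensional F V] (S : Module.End F V),
      finrank F V = 4 + i → LinearMap.det S = 1 → NonScalar S →
      3 ≤ finrank F (LinearMap.range (S - 1)) → ∀ (c : V) (_ : c ≠ 0) (r : V →ₗ[F] F) (_ : r ≠ 0),
      ∃ B D : Module.End F V, Pair S B D e (i + 1) ∧ aeval B (e * (X - 1) ^ i) c ≠ 0 ∧
        ∃ x, r (aeval D (e * (X - 1) ^ i) x) ≠ 0 := by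
  induction i with
  | zero =>
    intro V _ _ _ S hk hdet hns hR c hc r hr
    obtain ⟨v, φ, hv, hSv, hrv, hφc, hns', hR'⟩ := select_eq4 S hk hdet hns hR c hc r hr
    have hk' := finrank_ker_functional φ v hv
    obtain ⟨B', D', P⟩ := hbase (LinearMap.ker φ) (schur S φ v hSv) (by omega)
      (by rw [det_schur S φ v hv hSv, hdet]) hns' hR'
    obtain ⟨B, D, L⟩ := exists_lift S φ v hv hSv 1 B' D' P.sd
    refine ⟨B, D, L.pair hSv e 0 P, ?_, v, ?_⟩
    · rw [pow_zero, mul_one]
      exact L.condB_one e he.one c hφc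
    · rw [pow_zero, mul_one]
      exact L.condD_one e he.one r hrv
  | succ i ih =>
    intro V _ _ _ S hk hdet hns hR c hc r hr
    obtain ⟨v, φ, hv, hSv, hrv, hφc, hc', ⟨w, hw, hSw⟩, hns', hR'⟩ :=
      select_ge5 S (by omega) hdet hns hR c hc r hr
    have hk' := finrank_ker_functional φ v hv
    have hc'mem : S v - v ∈ LinearMap.ker φ := by
      rw [LinearMap.mem_ker, map_sub, hv, hSv, sub_self]
    obtain ⟨B', D', P, hB, x', hD⟩ := ih (LinearMap.ker φ) (schur S φ v hSv) (by omega)
      (by rw [det_schur S φ v hv hSv, hdet]) hns' hR' ⟨S v - v, hc'mem⟩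
      (fun h => hc' (congrArg Subtype.val h)) (φ ∘ₗ S ∘ₗ (LinearMap.ker φ).subtype)
      (fun h => hSw (by
        have := LinearMap.congr_fun h ⟨w, LinearMap.mem_ker.2 hw⟩
        simpa using this))
    obtain ⟨B, D, L⟩ := exists_lift S φ v hv hSv 1 B' D' P.sd
    refine ⟨B, D, L.pair hSv e (i + 1) P, ?_, (x' : V), ?_⟩
    · exact L.condB_succ hSv e i P c hφc _ rfl hB
    · exact L.condD_succ hSv e i P r hrv x' hD

/-- dimension at least four, rank at least three -/
theorem isComm_rank3 {F : Type u} [Field F] [Finite F] (e : F[X]) (he : Good e)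
    (hbase : BaseHyp.{u, w} F e) (V : Type w) [AddCommGroup V] [Module F V] [FiniteDimensional F V]
    (S : Module.End F V) (hk : 4 ≤ finrank F V) (hdet : LinearMap.det S = 1) (hns : NonScalar S)
    (hR : 3 ≤ finrank F (LinearMap.range (S - 1))) : IsComm S := by
  obtain ⟨i, hi⟩ : ∃ i, finrank F V = 4 + i := ⟨finrank F V - 4, by omega⟩
  have hpos : 0 < finrank F V := by omega
  haveI : Nontrivial V := Module.nontrivial_of_finrank_pos hpos
  obtain ⟨c, hc⟩ := exists_ne (0 : V)
  obtain ⟨r, hr⟩ := Projective.exists_dual_ne_zero F hc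
  obtain ⟨B, D, P, hB, x, hD⟩ := induct e he hbase i V S hi hdet hns hR c hc r
    (fun h => hr (by rw [h]; rfl))
  refine P.isComm he (by omega) (Or.inr ⟨c, by simpa using hB⟩) (Or.inr ⟨x, ?_⟩)
  intro h
  apply hD
  rw [Nat.add_sub_cancel] at h
  rw [h, map_zero]

/-- dimension four, rank two -/
theorem isComm_rank2 {F : Type u} [Field F] [Finite F] (e : F[X]) (he : Good e)
    (hbase : BaseHyp.{u, w} F e) (V : Type w) [AddCommGroup V] [Module F V] [FiniteDimensional F V]
    (S : Module.End F V) (hk : finrank F V = 4) (hdet : LinearMap.det S = 1)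
    (hR : finrank F (LinearMap.range (S - 1)) = 2) : IsComm S := by
  obtain ⟨v, φ, hv, hSv, hns', hR'⟩ := select_rank2 S hk hR
  have hk' := finrank_ker_functional φ v hv
  obtain ⟨B', D', P⟩ := hbase (LinearMap.ker φ) (schur S φ v hSv) (by omega)
    (by rw [det_schur S φ v hv hSv, hdet]) hns' hR'
  obtain ⟨B, D, L⟩ := exists_lift S φ v hv hSv 1 B' D' P.sd
  refine (L.pair hSv e 0 P).isComm he (by omega) (Or.inr ⟨v, ?_⟩) (Or.inr ⟨v, ?_⟩)
  · simpa using L.condB_one e he.one v (by rw [hv]; exact one_ne_zero)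
  · intro h
    refine L.condD_one e he.one φ (by rw [hv]; exact one_ne_zero) ?_
    simp only [zero_add, Nat.sub_self, pow_zero, mul_one] at h
    rw [h, map_zero]

/-- dimension three -/
theorem isComm_dim3 {F : Type u} [Field F] (e : F[X]) (he : Good e)
    (hbase : BaseHyp.{u, w} F e) (V : Type w) [AddCommGroup V] [Module F V] [FiniteDimensional F V]
    (S : Module.End F V) (hk : finrank F V = 3) (hdet : LinearMap.det S = 1) (hns : NonScalar S)
    (hR : 2 ≤ finrank F (LinearMap.range (S - 1))) : IsComm S := by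
  obtain ⟨B, D, P⟩ := hbase V S hk hdet hns hR
  exact P.isComm he (by omega) (Or.inl rfl) (Or.inl rfl)

end Cfsg.Agent.H141.Ore
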