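import Cfsg.Agent.H141.Ore.Schur

/-!
# Pairs of cyclic endomorphisms (helper141, S2444)
-/

set_option autoImplicit false

namespace Cfsg.Agent.H141.Ore

open Polynomial Module

variable {F : Type*} [Field F] {V : Type*} [AddCommGroup V] [Module F V]

/-- `S D = B` and both `B` and `D` are killed by `(X - 1) ^ j * e`; every polynomial killing `B`
or `D` is divisible by `e`. -/
structure Pair (S B D : Module.End F V) (e : F[X]) (j : ℕ) : Prop where
  sd : ∀ x, S (D x) = B x
  annB : ∀ x, aeval B ((X - 1) ^ j * e) x = 0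
  annD : ∀ x, aeval D ((X - 1) ^ j * e) x = 0
  dvdB : ∀ p : F[X], (∀ x, aeval B p x = 0) → e ∣ p
  dvdD : ∀ p : F[X], (∀ x, aeval D p x = 0) → e ∣ p

/-- the conditions on the cubic `e` -/
structure Good (e : F[X]) : Prop where
  monic : e.Monic
  deg : e.natDegree = 3
  coeff : e.coeff 0 = -1
  one : e.eval 1 ≠ 0
  ctrl : (∀ t : F, t ≠ 0 → t = 1) ∨ ∃ (b : F) (g : F[X]), e = (X - C b) * g ∧ g.eval b ≠ 0

theorem X_sub_one_eq : (X - 1 : F[X]) = X - C 1 := by rw [map_one]

theorem X_sub_one_monic : (X - 1 : F[X]).Monic := by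
  rw [X_sub_one_eq]; exact monic_X_sub_C 1

theorem X_sub_one_prime : Prime (X - 1 : F[X]) := by
  rw [X_sub_one_eq]; exact prime_X_sub_C 1

theorem X_sub_one_natDegree : (X - 1 : F[X]).natDegree = 1 := by
  rw [X_sub_one_eq]; exact natDegree_X_sub_C 1

theorem minpoly_eq_of [FiniteDimensional F V] (B : Module.End F V) (e : F[X]) (he : e.Monic) (j : ℕ)
    (h1 : ∀ x, aeval B ((X - 1) ^ j * e) x = 0)
    (h2 : ∀ p : F[X], (∀ x, aeval B p x = 0) → e ∣ p)
    (h3 : j = 0 ∨ ∃ x, aeval B (e * (X - 1) ^ (j - 1)) x ≠ 0) :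
    minpoly F B = (X - 1) ^ j * e := by
  have hm : (minpoly F B).Monic := minpoly.monic (Algebra.IsIntegral.isIntegral B)
  have hd1 : minpoly F B ∣ (X - 1) ^ j * e := minpoly.dvd F B (LinearMap.ext h1)
  have hd2 : e ∣ minpoly F B := h2 _ (fun x => by rw [minpoly.aeval]; rfl)
  obtain ⟨m, hm'⟩ := hd2
  have hd3 : m ∣ (X - 1) ^ j := by
    rw [hm', mul_comm ((X - 1) ^ j) e] at hd1
    exact (mul_dvd_mul_iff_left he.ne_zero).1 hd1
  obtain ⟨i, hi, hass⟩ := (dvd_prime_pow X_sub_one_prime j).1 hd3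
  have hij : i = j := by
    rcases h3 with rfl | ⟨x, hx⟩
    · omega
    · by_contra hne
      apply hx
      have hd4 : minpoly F B ∣ e * (X - 1) ^ (j - 1) := by
        rw [hm']
        exact mul_dvd_mul_left e (hass.dvd.trans (pow_dvd_pow _ (by omega)))
      obtain ⟨k, hk⟩ := hd4
      rw [hk, mul_apply_comm, minpoly.aeval]
      simp
  subst hij
  apply eq_of_monic_of_associated hm ((X_sub_one_monic.pow i).mul he)
  rw [hm', mul_comm]
  exact hass.mul_right e

namespace Lift

variable {S : Module.End F V} {φ : V →ₗ[F] F} {v : V} {hv : φ v = 1}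
    {B' D' : Module.End F (LinearMap.ker φ)} {B D : Module.End F V}

theorem pair (L : Lift S φ v hv 1 B' D' B D) (hSv : φ (S v) = 1) (e : F[X]) (j : ℕ)
    (P : Pair (schur S φ v hSv) B' D' e j) : Pair S B D e (j + 1) where
  sd := L.sd
  annB := by
    intro x
    rw [pow_succ', mul_assoc, X_sub_one_eq]
    exact L.ann_B _ (by intro w; rw [← X_sub_one_eq]; exact P.annB w) x
  annD := by
    intro x
    rw [pow_succ', mul_assoc, X_sub_one_eq]
    exact L.ann_D _ (by intro w; rw [← X_sub_one_eq]; exact P.annD w) x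
  dvdB := L.dvd_B e P.dvdB
  dvdD := L.dvd_D e P.dvdD

theorem condB_one (L : Lift S φ v hv 1 B' D' B D) (e : F[X]) (he : e.eval 1 ≠ 0) (c : V)
    (hc : φ c ≠ 0) : aeval B e c ≠ 0 := by
  intro h
  have := L.aeval_phiB e c
  rw [h, map_zero] at this
  exact mul_ne_zero he hc this.symm

theorem condD_one (L : Lift S φ v hv 1 B' D' B D) (e : F[X]) (he : e.eval 1 ≠ 0) (r : V →ₗ[F] F)
    (hr : r v ≠ 0) : r (aeval D e v) ≠ 0 := by
  rw [L.aeval_Dv, map_smul, smul_eq_mul]
  exact mul_ne_zero he hr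

theorem condB_succ (L : Lift S φ v hv 1 B' D' B D) (hSv : φ (S v) = 1) (e : F[X]) (i : ℕ)
    (P : Pair (schur S φ v hSv) B' D' e (i + 1)) (c : V) (hc : φ c ≠ 0)
    (c' : LinearMap.ker φ) (hc' : (c' : V) = S v - v)
    (h : aeval B' (e * (X - 1) ^ i) c' ≠ 0) : aeval B (e * (X - 1) ^ (i + 1)) c ≠ 0 := by
  have h1 : aeval B (e * (X - 1) ^ (i + 1)) v = (aeval B' (e * (X - 1) ^ i) c' : V) := by
    rw [pow_succ, ← mul_assoc, mul_apply', ← L.aeval_B, hc']
    congr 1
    simp only [map_sub, aeval_X, map_one, LinearMap.sub_apply, Module.End.one_apply, L.Bv, one_smul]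
  have hw : c - φ c • v ∈ LinearMap.ker φ := by
    rw [LinearMap.mem_ker, map_sub, map_smul, hv, smul_eq_mul, mul_one, sub_self]
  have h2 : aeval B (e * (X - 1) ^ (i + 1)) (c - φ c • v) = 0 := by
    have := L.aeval_B (e * (X - 1) ^ (i + 1)) ⟨_, hw⟩
    rw [this, mul_comm, P.annB]; rfl
  have h3 : aeval B (e * (X - 1) ^ (i + 1)) c = φ c • (aeval B' (e * (X - 1) ^ i) c' : V) := by
    rw [map_sub, sub_eq_zero, map_smul, h1] at h2
    exact h2
  rw [h3]
  exact smul_ne_zero hc (fun h0 => h (Subtype.ext h0))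

theorem condD_succ (L : Lift S φ v hv 1 B' D' B D) (hSv : φ (S v) = 1) (e : F[X]) (i : ℕ)
    (P : Pair (schur S φ v hSv) B' D' e (i + 1)) (r : V →ₗ[F] F) (hr : r v ≠ 0)
    (x' : LinearMap.ker φ) (h : φ (S (aeval D' (e * (X - 1) ^ i) x')) ≠ 0) :
    r (aeval D (e * (X - 1) ^ (i + 1)) (x' : V)) ≠ 0 := by
  set z := aeval D' (e * (X - 1) ^ i) x' with hz
  have hDz : D' z = z := by
    have h0 : aeval D' (X - 1 : F[X]) z = 0 := by
      rw [hz, ← mul_apply', mul_comm, mul_assoc, ← pow_succ, mul_comm]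
      exact P.annD x'
    simp only [map_sub, aeval_X, map_one, LinearMap.sub_apply, Module.End.one_apply] at h0
    exact sub_eq_zero.1 h0
  set y := aeval D (e * (X - 1) ^ i) (x' : V) with hy
  have hyz : y = z + φ y • v := by
    have h1 : proj φ v hv y = z := by rw [hy, L.aeval_D, proj_coe]
    have h2 : ((proj φ v hv y : LinearMap.ker φ) : V) = y - φ y • v := coe_proj φ v hv y
    rw [h1] at h2
    rw [h2]; abel
  have h3 : aeval D (e * (X - 1) ^ (i + 1)) (x' : V) = -φ (S z) • v := by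
    rw [pow_succ, ← mul_assoc, mul_apply_comm, ← hy]
    simp only [map_sub, aeval_X, map_one, LinearMap.sub_apply, Module.End.one_apply]
    have h4 : D y = z - φ (S z) • v + φ y • v := by
      conv_lhs => rw [hyz]
      rw [map_add, map_smul, L.Dv, L.Dw, hDz, one_smul]
    rw [h4, neg_smul, sub_eq_iff_eq_add]
    conv_rhs => rw [hyz]
    abel
  rw [h3, map_smul, smul_eq_mul]
  exact mul_ne_zero (neg_ne_zero.2 h) hr

end Lift

/-- the end of the argument -/
theorem Pair.isComm [FiniteDimensional F V] {S B D : Module.End F V} {e : F[X]} {j : ℕ}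
    (P : Pair S B D e j) (he : Good e) (hdim : finrank F V = 3 + j)
    (hB : j = 0 ∨ ∃ x, aeval B (e * (X - 1) ^ (j - 1)) x ≠ 0)
    (hD : j = 0 ∨ ∃ x, aeval D (e * (X - 1) ^ (j - 1)) x ≠ 0) : IsComm S := by
  have hmB := minpoly_eq_of B e he.monic j P.annB P.dvdB hB
  have hmD := minpoly_eq_of D e he.monic j P.annD P.dvdD hD
  have hdeg : ((X - 1 : F[X]) ^ j * e).natDegree = finrank F V := by
    rw [(X_sub_one_monic.pow j).natDegree_mul he.monic, natDegree_pow, X_sub_one_natDegree, he.deg,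
      hdim]
    omega
  refine isComm_of_cyclic S B D _ hmB hmD hdeg P.sd ?_ ?_
  · rw [hdim, mul_coeff_zero, he.coeff, coeff_zero_eq_eval_zero, eval_pow, eval_sub, eval_X, eval_one,
      zero_sub, mul_neg, mul_one, ← neg_one_mul ((-1 : F) ^ j), ← pow_succ', ← pow_add]
    exact Even.neg_one_pow ⟨j + 2, by ring⟩
  · rcases he.ctrl with h | ⟨b, g, heg, hgb⟩
    · intro t ht
      refine ⟨LinearEquiv.refl F V, ?_, fun x => rfl⟩
      rw [h t ht]
      exact LinearMap.det_id
    · intro t ht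
      have hg0 : g ≠ 0 := by
        rintro rfl
        simp at hgb
      have hgm : g.Monic := by
        have := he.monic
        rw [heg] at this
        exact (monic_X_sub_C b).of_mul_monic_left this
      have hb1 : b ≠ 1 := by
        rintro rfl
        apply he.one
        rw [heg]; simp
      refine exists_centralizer_det D b ((X - 1) ^ j * g) ?_ ?_ ?_ t ht
      · intro x
        have : (X - C b) * ((X - 1) ^ j * g) = (X - 1) ^ j * e := by rw [heg]; ring
        rw [this]
        exact P.annD x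
      · intro h
        have h1 := minpoly.dvd F D h
        rw [hmD, heg] at h1
        have h2 := natDegree_le_of_dvd h1 ((X_sub_one_monic.pow j).mul hgm).ne_zero
        rw [(X_sub_one_monic.pow j).natDegree_mul ((monic_X_sub_C b).mul hgm),
          (monic_X_sub_C b).natDegree_mul hgm, (X_sub_one_monic.pow j).natDegree_mul hgm,
          natDegree_X_sub_C] at h2
        omega
      · rw [eval_mul, eval_pow, eval_sub, eval_X, eval_one]
        exact mul_ne_zero (pow_ne_zero _ (sub_ne_zero.2 hb1)) hgb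

end Cfsg.Agent.H141.Ore
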