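import Cfsg.Agent.H141.Ore.Count

/-!
# Choice of the pivot (helper141, S2444)
-/

set_option autoImplicit false
set_option linter.unusedSectionVars false

namespace Cfsg.Agent.H141.Ore

open Module

variable {F : Type*} [Field F] [Finite F] {V : Type*} [AddCommGroup V] [Module F V]
  [FiniteDimensional F V]

theorem two_le_card : 2 ≤ Nat.card F := by
  have : Nontrivial F := inferInstance
  exact Finite.one_lt_card

theorem card_le_pow (H : Submodule F V) (b : ℕ) (h : finrank F H ≤ b) :
    Nat.card H ≤ Nat.card F ^ b := by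
  rw [card_submodule]
  exact Nat.pow_le_pow_right Nat.card_pos h

theorem comap_span_le (N : Module.End F V) (c : V) :
    ∃ x0, (Submodule.span F {c}).comap N ≤ LinearMap.ker N ⊔ Submodule.span F {x0} := by
  by_cases hc : c ∈ LinearMap.range N
  · obtain ⟨x0, rfl⟩ := hc
    refine ⟨x0, fun x hx => ?_⟩
    rw [Submodule.mem_comap, Submodule.mem_span_singleton] at hx
    obtain ⟨a, ha⟩ := hx
    have h1 : x = (x - a • x0) + a • x0 := by abel
    rw [h1]
    refine add_mem ((le_sup_left : LinearMap.ker N ≤ _) ?_)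
      ((le_sup_right : Submodule.span F {x0} ≤ _)
        (Submodule.smul_mem _ _ (Submodule.mem_span_singleton_self x0)))
    rw [LinearMap.mem_ker, map_sub, map_smul, ha, sub_self]
  · refine ⟨0, fun x hx => (le_sup_left : LinearMap.ker N ≤ _) ?_⟩
    rw [Submodule.mem_comap, Submodule.mem_span_singleton] at hx
    obtain ⟨a, ha⟩ := hx
    rw [LinearMap.mem_ker]
    by_cases h0 : a = 0
    · rw [← ha, h0, zero_smul]
    · exfalso
      apply hc
      have : c = a⁻¹ • N x := by rw [← ha, smul_smul, inv_mul_cancel₀ h0, one_smul]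
      rw [this]
      exact Submodule.smul_mem _ _ (LinearMap.mem_range_self N x)

theorem finrank_comap_span (N : Module.End F V) (c : V) :
    finrank F ↥((Submodule.span F {c}).comap N) + finrank F (LinearMap.range N) ≤
      finrank F V + 1 := by
  obtain ⟨x0, h⟩ := comap_span_le N c
  have h1 := Submodule.finrank_mono h
  have h2 := finrank_sup_span_le (LinearMap.ker N) x0
  have h3 := LinearMap.finrank_range_add_finrank_ker N
  omega

theorem exists_eigen_cover (S : Module.End F V) (hns : NonScalar S) (hk : 1 ≤ finrank F V) :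
    ∃ H₁ H₂ : Submodule F V, finrank F H₁ + 1 ≤ finrank F V ∧ finrank F H₂ + 1 ≤ finrank F V ∧
      finrank F H₁ + finrank F H₂ ≤ finrank F V ∧
      ∀ (v : V) (μ : F), S v = μ • v → v ∈ H₁ ∨ v ∈ H₂ := by
  by_cases hex : ∃ (μ₀ : F) (v₀ : V), v₀ ≠ 0 ∧ S v₀ = μ₀ • v₀
  · obtain ⟨μ₀, v₀, hv₀, hS₀⟩ := hex
    have hdis : Disjoint (S.eigenspace μ₀) (⨆ μ, ⨆ (_ : μ ≠ μ₀), S.eigenspace μ) :=
      Module.End.eigenspaces_iSupIndep S μ₀
    refine ⟨S.eigenspace μ₀, ⨆ μ, ⨆ (_ : μ ≠ μ₀), S.eigenspace μ, ?_, ?_, ?_, ?_⟩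
    · have : S.eigenspace μ₀ ≠ ⊤ := by
        intro h
        obtain ⟨x, hx⟩ := hns μ₀
        apply hx
        rw [← Module.End.mem_eigenspace_iff, h]
        trivial
      exact Submodule.finrank_lt this
    · have : (⨆ μ, ⨆ (_ : μ ≠ μ₀), S.eigenspace μ) ≠ ⊤ := by
        intro h
        rw [h, disjoint_top] at hdis
        have h1 : v₀ ∈ S.eigenspace μ₀ := Module.End.mem_eigenspace_iff.2 hS₀
        rw [hdis] at h1
        exact hv₀ ((Submodule.mem_bot F).1 h1)
      exact Submodule.finrank_lt this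
    · exact Submodule.finrank_add_finrank_le_of_disjoint hdis
    · intro v μ hv
      by_cases h : μ = μ₀
      · left
        rw [← h]
        exact Module.End.mem_eigenspace_iff.2 hv
      · right
        exact (le_iSup₂_of_le μ h le_rfl : S.eigenspace μ ≤ _) (Module.End.mem_eigenspace_iff.2 hv)
  · push Not at hex
    refine ⟨⊥, ⊥, ?_, ?_, ?_, ?_⟩
    · simpa using hk
    · simpa using hk
    · simp
    · intro v μ hv
      left
      rw [Submodule.mem_bot]
      by_contra h
      exact hex μ v h hv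

/-- choice of `v`, main case -/
theorem choose_v_B (S : Module.End F V) (hk : 4 ≤ finrank F V)
    (hR : 3 ≤ finrank F (LinearMap.range (S - 1))) (hR' : finrank F (LinearMap.range (S - 1)) < finrank F V)
    (c : V) (r : V →ₗ[F] F) (hr : r ≠ 0) :
    ∃ v, r v = 1 ∧ v ∉ LinearMap.range (S - 1) ∧ S v - v ∉ Submodule.span F {c} := by
  have hq := two_le_card (F := F)
  set q := Nat.card F with hqdef
  obtain ⟨m, hm⟩ : ∃ m, finrank F V = m + 2 := ⟨finrank F V - 2, by omega⟩
  have h1 := finrank_comap_span (S - 1) c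
  have e1 := card_le_pow (LinearMap.range (S - 1)) (m + 1) (by omega)
  have e2 := card_le_pow ((Submodule.span F {c}).comap (S - 1)) m (by omega)
  have e3 : Nat.card (⊥ : Submodule F V) = 1 := by simp
  have e4 : Nat.card V = q ^ (m + 2) := by rw [← hm]; exact Module.natCard_eq_pow_finrank
  have e5 : q ^ 2 ≤ q ^ m := Nat.pow_le_pow_right (by omega) (by omega)
  rw [← hqdef] at e1 e2
  have hlt : Nat.card (LinearMap.range (S - 1)) + Nat.card ((Submodule.span F {c}).comap (S - 1)) +
      Nat.card (⊥ : Submodule F V) < Nat.card V := by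
    rw [e3, e4]
    have : q ^ (m + 1) + q ^ m + 1 < q ^ (m + 2) := by
      rw [pow_succ, pow_add]
      nlinarith [Nat.mul_le_mul_left (q ^ m) hq, Nat.mul_le_mul_left (q ^ m * q) hq]
    omega
  obtain ⟨v, hv, h1, h2, -⟩ := exists_avoid r hr _ _ _ hlt
  exact ⟨v, hv, h1, h2⟩

/-- choice of `v`, `S - 1` invertible -/
theorem choose_v_C (S : Module.End F V) (hk : 4 ≤ finrank F V) (hns : NonScalar S)
    (hR' : finrank F (LinearMap.range (S - 1)) = finrank F V)
    (c : V) (r : V →ₗ[F] F) (hr : r ≠ 0) :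
    ∃ v, r v = 1 ∧ v ∉ Submodule.span F {S v - v} ∧ S v - v ∉ Submodule.span F {c} := by
  have hq := two_le_card (F := F)
  set q := Nat.card F with hqdef
  obtain ⟨m, hm⟩ : ∃ m, finrank F V = m + 2 := ⟨finrank F V - 2, by omega⟩
  obtain ⟨H₁, H₂, hH₁, hH₂, hH, hcov⟩ := exists_eigen_cover S hns (by omega)
  have h1 := finrank_comap_span (S - 1) c
  have e2 := card_le_pow ((Submodule.span F {c}).comap (S - 1)) 1 (by omega)
  have e4 : Nat.card V = q ^ (m + 2) := by rw [← hm]; exact Module.natCard_eq_pow_finrank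
  have e5 : q ^ 2 ≤ q ^ m := Nat.pow_le_pow_right (by omega) (by omega)
  rw [← hqdef, pow_one] at e2
  have hlt : Nat.card H₁ + Nat.card H₂ + Nat.card ((Submodule.span F {c}).comap (S - 1)) <
      Nat.card V := by
    rw [e4]
    have e6 : q ^ (m + 2) = q ^ m * q * q := by rw [pow_add, pow_two, mul_assoc]
    have e7 : q ^ (m + 1) = q ^ m * q := by rw [pow_succ]
    by_cases hc1 : finrank F H₁ ≤ m ∧ finrank F H₂ ≤ m
    · have f1 := card_le_pow H₁ m hc1.1
      have f2 := card_le_pow H₂ m hc1.2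
      rw [← hqdef] at f1 f2
      nlinarith [Nat.mul_le_mul_left (q ^ m) hq, Nat.mul_le_mul_left (q ^ m * q) hq]
    · by_cases hc2 : finrank F H₁ ≤ m
      · have f1 := card_le_pow H₁ 1 (by omega)
        have f2 := card_le_pow H₂ (m + 1) (by omega)
        rw [← hqdef] at f1 f2
        nlinarith [Nat.mul_le_mul_left (q ^ m) hq, Nat.mul_le_mul_left (q ^ m * q) hq]
      · have f1 := card_le_pow H₁ (m + 1) (by omega)
        have f2 := card_le_pow H₂ 1 (by omega)
        rw [← hqdef] at f1 f2
        nlinarith [Nat.mul_le_mul_left (q ^ m) hq, Nat.mul_le_mul_left (q ^ m * q) hq]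
  obtain ⟨v, hv, h1, h2, h3⟩ := exists_avoid r hr _ _ _ hlt
  refine ⟨v, hv, ?_, h3⟩
  intro hmem
  rw [Submodule.mem_span_singleton] at hmem
  obtain ⟨a, ha⟩ := hmem
  have hv0 : v ≠ 0 := by
    rintro rfl
    rw [map_zero] at hv
    exact zero_ne_one hv
  have ha0 : a ≠ 0 := by
    rintro rfl
    rw [zero_smul] at ha
    exact hv0 ha.symm
  have h4 : S v - v = a⁻¹ • v := by
    have : a⁻¹ • v = a⁻¹ • a • (S v - v) := by rw [ha]
    rw [this, smul_smul, inv_mul_cancel₀ ha0, one_smul]
  have h5 : S v = (a⁻¹ + 1) • v := by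
    rw [add_smul, one_smul, ← h4]; abel
  rcases hcov v _ h5 with h | h
  · exact h1 h
  · exact h2 h

/-- choice of `v`, rank three -/
theorem choose_v_A (S : Module.End F V) (hk : 5 ≤ finrank F V)
    (hR : finrank F (LinearMap.range (S - 1)) = 3) (c : V) (r : V →ₗ[F] F) (hr : r ≠ 0) :
    ∃ v, r v = 1 ∧ v ∉ LinearMap.range (S - 1) ⊔ Submodule.span F {c} ∧
      v ∉ LinearMap.ker (S - 1) ⊔ Submodule.span F {c} ∧ S v - v ∉ Submodule.span F {c} := by
  have hq := two_le_card (F := F)
  set q := Nat.card F with hqdef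
  obtain ⟨m, hm⟩ : ∃ m, finrank F V = m + 2 := ⟨finrank F V - 2, by omega⟩
  have h1 := finrank_comap_span (S - 1) c
  have h2 := LinearMap.finrank_range_add_finrank_ker (S - 1)
  have h3 := finrank_sup_span_le (LinearMap.ker (S - 1)) c
  have e2 := card_le_pow ((Submodule.span F {c}).comap (S - 1)) m (by omega)
  have e1 := card_le_pow (LinearMap.ker (S - 1) ⊔ Submodule.span F {c}) m (by omega)
  have e4 : Nat.card V = q ^ (m + 2) := by rw [← hm]; exact Module.natCard_eq_pow_finrank
  have e5 : q ^ 3 ≤ q ^ m := Nat.pow_le_pow_right (by omega) (by omega)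
  have e55 : q ^ 4 ≤ q ^ (m + 1) := Nat.pow_le_pow_right (by omega) (by omega)
  have e6 : q ^ (m + 2) = q ^ m * q * q := by rw [pow_add, pow_two, mul_assoc]
  have e7 : q ^ (m + 1) = q ^ m * q := by rw [pow_succ]
  have e8 : 8 ≤ q ^ 3 := by
    calc 8 = 2 ^ 3 := by norm_num
      _ ≤ q ^ 3 := Nat.pow_le_pow_left hq 3
  rw [← hqdef] at e1 e2
  by_cases hcI : c ∈ LinearMap.range (S - 1)
  · have h4 : LinearMap.range (S - 1) ⊔ Submodule.span F {c} = LinearMap.range (S - 1) :=
      sup_eq_left.2 ((Submodule.span_singleton_le_iff_mem _ _).2 hcI)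
    have f1 := card_le_pow (LinearMap.range (S - 1)) 3 (by omega)
    rw [← hqdef] at f1
    have hlt : Nat.card (LinearMap.range (S - 1)) +
        Nat.card ↥(LinearMap.ker (S - 1) ⊔ Submodule.span F {c}) +
        Nat.card ((Submodule.span F {c}).comap (S - 1)) < Nat.card V := by
      rw [e4]
      nlinarith [Nat.mul_le_mul_left (q ^ m) hq, Nat.mul_le_mul_left (q ^ m * q) hq]
    obtain ⟨v, hv, h1, h2, h3⟩ := exists_avoid r hr _ _ _ hlt
    exact ⟨v, hv, by rw [h4]; exact h1, h2, h3⟩
  · have h5 := finrank_sup_span_le (LinearMap.range (S - 1)) c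
    have f1 := card_le_pow (LinearMap.range (S - 1) ⊔ Submodule.span F {c}) 4 (by omega)
    rw [← hqdef] at f1
    have e3 : Nat.card (⊥ : Submodule F V) = 1 := by simp
    have hlt : Nat.card ↥(LinearMap.range (S - 1) ⊔ Submodule.span F {c}) +
        Nat.card ↥(LinearMap.ker (S - 1) ⊔ Submodule.span F {c}) +
        Nat.card (⊥ : Submodule F V) < Nat.card V := by
      rw [e4, e3]
      nlinarith [Nat.mul_le_mul_left (q ^ m) hq, Nat.mul_le_mul_left (q ^ m * q) hq]
    obtain ⟨v, hv, h1, h2, -⟩ := exists_avoid r hr _ _ _ hlt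
    refine ⟨v, hv, h1, h2, ?_⟩
    intro hmem
    apply h2
    apply (le_sup_left : LinearMap.ker (S - 1) ≤ _)
    rw [LinearMap.mem_ker, LinearMap.sub_apply, Module.End.one_apply]
    rw [Submodule.mem_span_singleton] at hmem
    obtain ⟨a, ha⟩ := hmem
    by_contra hne
    have ha0 : a ≠ 0 := by
      rintro rfl
      rw [zero_smul] at ha
      exact hne ha.symm
    apply hcI
    refine ⟨a⁻¹ • v, ?_⟩
    rw [map_smul, LinearMap.sub_apply, Module.End.one_apply, ← ha, smul_smul, inv_mul_cancel₀ ha0,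
      one_smul]

theorem nonScalar_schur (S : Module.End F V) (φ : V →ₗ[F] F) (v : V) (hv : φ v = 1)
    (hSv : φ (S v) = 1) (hdet : LinearMap.det S = 1) (hk : 2 ≤ finrank F V)
    (hR : 1 ≤ finrank F (LinearMap.range (schur S φ v hSv - 1)))
    (h : ∀ a : F, a ≠ 0 → a ≠ 1 → ∃ w, schur S φ v hSv w ≠ a • w) :
    NonScalar (schur S φ v hSv) := by
  intro a
  by_cases h0 : a = 0
  · by_contra hcon
    push Not at hcon
    have h1 : schur S φ v hSv = 0 := by
      apply LinearMap.ext
      intro w
      rw [hcon w, h0, zero_smul, LinearMap.zero_apply]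
    have h2 := det_schur S φ v hv hSv
    have h3 := finrank_ker_functional φ v hv
    rw [h1, hdet, LinearMap.det_zero, zero_pow (by omega)] at h2
    exact zero_ne_one h2
  · by_cases h1 : a = 1
    · by_contra hcon
      push Not at hcon
      have h2 : schur S φ v hSv - 1 = 0 := by
        apply LinearMap.ext
        intro w
        rw [LinearMap.sub_apply, hcon w, h1, one_smul, Module.End.one_apply, LinearMap.zero_apply,
          sub_self]
      rw [h2, LinearMap.range_zero, finrank_bot] at hR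
      omega
    · exact h a h0 h1

theorem notMem_of_range {S : Module.End F V} {v : V} (h : v ∉ LinearMap.range (S - 1)) :
    v ∉ Submodule.span F {S v - v} := by
  intro hmem
  apply h
  refine (Submodule.span_singleton_le_iff_mem _ _).2 ?_ hmem
  exact ⟨v, rfl⟩

theorem notMem_swap {n c : V} (hc : c ≠ 0) (h : n ∉ Submodule.span F {c}) :
    c ∉ Submodule.span F {n} := by
  intro hmem
  apply h
  rw [Submodule.mem_span_singleton] at hmem ⊢
  obtain ⟨a, ha⟩ := hmem
  have ha0 : a ≠ 0 := by
    rintro rfl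
    rw [zero_smul] at ha
    exact hc ha.symm
  exact ⟨a⁻¹, by rw [← ha, smul_smul, inv_mul_cancel₀ ha0, one_smul]⟩

theorem ne_of_notMem {S : Module.End F V} {v c : V} (h : S v - v ∉ Submodule.span F {c}) :
    S v ≠ v := by
  intro h0
  apply h
  rw [h0, sub_self]
  exact zero_mem _

theorem exists_ker_of_range (S : Module.End F V) (φ : V →ₗ[F] F) (v : V) (hv : φ v = 1)
    (hSv : φ (S v) = 1) (h : ∃ x ∈ LinearMap.range (S - 1), φ x ≠ 0) :
    ∃ w, φ w = 0 ∧ φ (S w) ≠ 0 := by
  obtain ⟨_, ⟨y, rfl⟩, hy⟩ := h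
  refine ⟨y - φ y • v, ?_, ?_⟩
  · rw [map_sub, map_smul, hv, smul_eq_mul, mul_one, sub_self]
  · rw [map_sub, map_smul, map_sub, map_smul, hSv, smul_eq_mul, mul_one]
    rw [LinearMap.sub_apply, Module.End.one_apply, map_sub] at hy
    exact hy

/-- the pivot in dimension at least five -/
theorem select_ge5 (S : Module.End F V) (hk : 5 ≤ finrank F V) (hdet : LinearMap.det S = 1)
    (hns : NonScalar S) (hR : 3 ≤ finrank F (LinearMap.range (S - 1))) (c : V) (hc : c ≠ 0)
    (r : V →ₗ[F] F) (hr : r ≠ 0) :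
    ∃ (v : V) (φ : V →ₗ[F] F) (_ : φ v = 1) (hSv : φ (S v) = 1), r v ≠ 0 ∧ φ c ≠ 0 ∧
      S v - v ≠ 0 ∧ (∃ w, φ w = 0 ∧ φ (S w) ≠ 0) ∧ NonScalar (schur S φ v hSv) ∧
      3 ≤ finrank F (LinearMap.range (schur S φ v hSv - 1)) := by
  have hq := two_le_card (F := F)
  obtain ⟨m, hm⟩ : ∃ m, finrank F V = m + 5 := ⟨finrank F V - 5, by omega⟩
  have hle : finrank F (LinearMap.range (S - 1)) ≤ finrank F V := Submodule.finrank_le _
  have hm3 : finrank F V - 3 = m + 2 := by omega
  have hm5 : finrank F V - 5 = m := by omega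
  have hpow : Nat.card F ^ (m + 2) = Nat.card F ^ m * Nat.card F * Nat.card F := by
    rw [pow_add, pow_two, mul_assoc]
  have hqm : 1 ≤ Nat.card F ^ m := Nat.one_le_pow _ _ (by omega)
  rcases Nat.lt_or_ge (finrank F (LinearMap.range (S - 1))) 4 with hR4 | hR4
  · -- rank three
    have hR3 : finrank F (LinearMap.range (S - 1)) = 3 := by omega
    obtain ⟨v, hrv, hv1, hv2, hv3⟩ := choose_v_A S hk hR3 c r hr
    have hvI : v ∉ LinearMap.range (S - 1) := fun h => hv1 ((le_sup_left :
      LinearMap.range (S - 1) ≤ LinearMap.range (S - 1) ⊔ Submodule.span F {c}) h)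
    have hspan : ∀ A : Submodule F V, A ⊔ Submodule.span F {v, c} =
        (A ⊔ Submodule.span F {c}) ⊔ Submodule.span F {v} := by
      intro A
      rw [Submodule.span_insert, sup_assoc, sup_comm (Submodule.span F {c})]
    have hker := LinearMap.finrank_range_add_finrank_ker (S - 1)
    obtain ⟨φ, hv, hSv, hφc, hφI, ⟨z, hz, hφz⟩, hφ⟩ := exists_phi S v c (notMem_of_range hvI)
      (notMem_swap hc hv3) (ne_of_notMem hv3) (LinearMap.range (S - 1)) (LinearMap.ker (S - 1))
      (Nat.card F ^ m) (Nat.card F) (by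
        by_cases hcI : c ∈ LinearMap.range (S - 1)
        · exact Or.inl (Or.inr hcI)
        · right
          have e1 := finrank_sup_span_ge _ c hcI
          have e2 := finrank_sup_span_ge _ v hv1
          rw [hspan]
          exact Nat.pow_le_pow_right (by omega) (by omega))
      (by
        by_cases hcZ : c ∈ LinearMap.ker (S - 1)
        · exact Or.inl (Or.inr hcZ)
        · right
          have e1 := finrank_sup_span_ge _ c hcZ
          have e2 := finrank_sup_span_ge _ v hv2
          rw [hspan]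
          calc _ ≤ Nat.card F ^ 1 := Nat.pow_le_pow_right (by omega) (by omega)
            _ = Nat.card F := pow_one _)
      (by
        rw [hm3, hpow]
        have : Nat.card F ^ m * Nat.card F * Nat.card F ≥ Nat.card F ^ m + 2 * Nat.card F - 1 := by
          obtain ⟨t, ht⟩ : ∃ t, Nat.card F = t + 2 := ⟨Nat.card F - 2, by omega⟩
          obtain ⟨s, hs⟩ : ∃ s, Nat.card F ^ m = s + 1 := ⟨Nat.card F ^ m - 1, by omega⟩
          rw [hs, ht]
          have : (s + 1) * (t + 2) * (t + 2) ≥ s + 2 * (t + 2) := by nlinarith [Nat.zero_le (s * t), Nat.zero_le (s * t * t), Nat.zero_le (t * t)]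
          omega
        omega)
    rw [LinearMap.mem_ker, LinearMap.sub_apply, Module.End.one_apply, sub_eq_zero] at hz
    have hrk := finrank_schur₀ S φ v hv hSv hvI z hz hφz
    refine ⟨v, φ, hv, hSv, by rw [hrv]; exact one_ne_zero, hφc, sub_ne_zero.2 (ne_of_notMem hv3),
      exists_ker_of_range S φ v hv hSv hφI, ?_, by omega⟩
    exact nonScalar_schur S φ v hv hSv hdet (by omega) (by omega) hφ
  · rcases Nat.lt_or_ge (finrank F (LinearMap.range (S - 1))) (finrank F V) with hRk | hRk
    · obtain ⟨v, hrv, hv1, hv3⟩ := choose_v_B S (by omega) hR hRk c r hr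
      obtain ⟨φ, hv, hSv, hφc, hφI, -, hφ⟩ := exists_phi S v c (notMem_of_range hv1)
        (notMem_swap hc hv3) (ne_of_notMem hv3) (LinearMap.range (S - 1)) ⊤
        (Nat.card F ^ m) 0 (by
          right
          have e1 := finrank_sup_span_ge _ v hv1
          have e2 : LinearMap.range (S - 1) ⊔ Submodule.span F {v} ≤
              LinearMap.range (S - 1) ⊔ Submodule.span F {v, c} :=
            sup_le_sup_left (Submodule.span_mono (by simp)) _
          have e3 := Submodule.finrank_mono e2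
          exact Nat.pow_le_pow_right (by omega) (by omega))
        (Or.inl (Or.inl trivial))
        (by
          rw [hm3, hpow]
          have : Nat.card F ^ m * Nat.card F * Nat.card F ≥ Nat.card F ^ m + Nat.card F - 1 := by
            obtain ⟨t, ht⟩ : ∃ t, Nat.card F = t + 2 := ⟨Nat.card F - 2, by omega⟩
            obtain ⟨s, hs⟩ : ∃ s, Nat.card F ^ m = s + 1 := ⟨Nat.card F ^ m - 1, by omega⟩
            rw [hs, ht]
            have : (s + 1) * (t + 2) * (t + 2) ≥ s + 1 + (t + 2) := by nlinarith [Nat.zero_le (s * t), Nat.zero_le (s * t * t), Nat.zero_le (t * t)]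
            omega
          omega)
      have hrk := finrank_schur₁ S φ v hv hSv hv1
      refine ⟨v, φ, hv, hSv, by rw [hrv]; exact one_ne_zero, hφc, sub_ne_zero.2 (ne_of_notMem hv3),
        exists_ker_of_range S φ v hv hSv hφI, ?_, by omega⟩
      exact nonScalar_schur S φ v hv hSv hdet (by omega) (by omega) hφ
    · have hRk' : finrank F (LinearMap.range (S - 1)) = finrank F V := le_antisymm hle hRk
      have htop : LinearMap.range (S - 1) = ⊤ := Submodule.eq_top_of_finrank_eq hRk'
      obtain ⟨v, hrv, hv1, hv3⟩ := choose_v_C S (by omega) hns hRk' c r hr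
      obtain ⟨φ, hv, hSv, hφc, hφI, -, hφ⟩ := exists_phi S v c hv1
        (notMem_swap hc hv3) (ne_of_notMem hv3) (LinearMap.range (S - 1)) ⊤
        0 0 (Or.inl (Or.inl (by rw [htop]; trivial)))
        (Or.inl (Or.inl trivial))
        (by
          rw [hm3, hpow]
          have : Nat.card F ^ m * Nat.card F * Nat.card F ≥ Nat.card F := by
            calc Nat.card F = 1 * 1 * Nat.card F := by ring
              _ ≤ Nat.card F ^ m * Nat.card F * Nat.card F :=
                Nat.mul_le_mul_right _ (Nat.mul_le_mul hqm (by omega))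
          omega)
      have hrk := finrank_schur₂ S φ v hv hSv
      refine ⟨v, φ, hv, hSv, by rw [hrv]; exact one_ne_zero, hφc, sub_ne_zero.2 (ne_of_notMem hv3),
        exists_ker_of_range S φ v hv hSv hφI, ?_, by omega⟩
      exact nonScalar_schur S φ v hv hSv hdet (by omega) (by omega) hφ

/-- the pivot in dimension four -/
theorem select_eq4 (S : Module.End F V) (hk : finrank F V = 4) (hdet : LinearMap.det S = 1)
    (hns : NonScalar S) (hR : 3 ≤ finrank F (LinearMap.range (S - 1))) (c : V) (hc : c ≠ 0)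
    (r : V →ₗ[F] F) (hr : r ≠ 0) :
    ∃ (v : V) (φ : V →ₗ[F] F) (_ : φ v = 1) (hSv : φ (S v) = 1), r v ≠ 0 ∧ φ c ≠ 0 ∧
      NonScalar (schur S φ v hSv) ∧
      2 ≤ finrank F (LinearMap.range (schur S φ v hSv - 1)) := by
  have hq := two_le_card (F := F)
  have hle : finrank F (LinearMap.range (S - 1)) ≤ finrank F V := Submodule.finrank_le _
  have hcount : 0 + 0 + (Nat.card F - 2) < Nat.card F ^ (finrank F V - 3) := by
    rw [hk]
    norm_num
  rcases Nat.lt_or_ge (finrank F (LinearMap.range (S - 1))) (finrank F V) with hRk | hRk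
  · obtain ⟨v, hrv, hv1, hv3⟩ := choose_v_B S (by omega) hR hRk c r hr
    obtain ⟨φ, hv, hSv, hφc, -, -, hφ⟩ := exists_phi S v c (notMem_of_range hv1)
      (notMem_swap hc hv3) (ne_of_notMem hv3) ⊤ ⊤ 0 0 (Or.inl (Or.inl trivial))
      (Or.inl (Or.inl trivial)) hcount
    have hrk := finrank_schur₁ S φ v hv hSv hv1
    exact ⟨v, φ, hv, hSv, by rw [hrv]; exact one_ne_zero, hφc,
      nonScalar_schur S φ v hv hSv hdet (by omega) (by omega) hφ, by omega⟩
  · have hRk' : finrank F (LinearMap.range (S - 1)) = finrank F V := le_antisymm hle hRk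
    obtain ⟨v, hrv, hv1, hv3⟩ := choose_v_C S (by omega) hns hRk' c r hr
    obtain ⟨φ, hv, hSv, hφc, -, -, hφ⟩ := exists_phi S v c hv1
      (notMem_swap hc hv3) (ne_of_notMem hv3) ⊤ ⊤ 0 0 (Or.inl (Or.inl trivial))
      (Or.inl (Or.inl trivial)) hcount
    have hrk := finrank_schur₂ S φ v hv hSv
    exact ⟨v, φ, hv, hSv, by rw [hrv]; exact one_ne_zero, hφc,
      nonScalar_schur S φ v hv hSv hdet (by omega) (by omega) hφ, by omega⟩

/-- the pivot in dimension four, rank two -/
theorem select_rank2 (S : Module.End F V) (hk : finrank F V = 4)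
    (hR : finrank F (LinearMap.range (S - 1)) = 2) :
    ∃ (v : V) (φ : V →ₗ[F] F) (_ : φ v = 1) (hSv : φ (S v) = 1),
      NonScalar (schur S φ v hSv) ∧
      2 ≤ finrank F (LinearMap.range (schur S φ v hSv - 1)) := by
  obtain ⟨v, hvI⟩ : ∃ v, v ∉ LinearMap.range (S - 1) := by
    by_contra hcon
    push Not at hcon
    have : LinearMap.range (S - 1) = ⊤ := by
      rw [eq_top_iff]; exact fun x _ => hcon x
    rw [this, finrank_top] at hR
    omega
  have hker := LinearMap.finrank_range_add_finrank_ker (S - 1)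
  obtain ⟨z, hz, hzn⟩ : ∃ z ∈ LinearMap.ker (S - 1), z ∉ Submodule.span F {S v - v} := by
    by_contra hcon
    push Not at hcon
    have h1 : LinearMap.ker (S - 1) ≤ Submodule.span F {S v - v} := hcon
    have h2 := Submodule.finrank_mono h1
    have h3 := finrank_sup_span_le (⊥ : Submodule F V) (S v - v)
    rw [bot_sup_eq, finrank_bot] at h3
    omega
  obtain ⟨φ, hφn, hv, hφz⟩ := exists_functional (S v - v) v z (notMem_of_range hvI) hzn
  have hSv : φ (S v) = 1 := by
    rw [map_sub, hv] at hφn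
    exact sub_eq_zero.1 hφn
  have hz' : S z = z := by
    rw [LinearMap.mem_ker, LinearMap.sub_apply, Module.End.one_apply, sub_eq_zero] at hz
    exact hz
  have hrk := finrank_schur₀ S φ v hv hSv hvI z hz' hφz
  refine ⟨v, φ, hv, hSv, ?_, by omega⟩
  -- a fixed vector of the Schur complement
  obtain ⟨w, hw0, hwZ, hwφ⟩ : ∃ w, w ≠ 0 ∧ S w = w ∧ φ w = 0 := by
    by_contra hcon
    push Not at hcon
    have h1 : LinearMap.ker (S - 1) ≤ ⊥ ⊔ Submodule.span F {z} := by
      intro x hx
      rw [bot_sup_eq, Submodule.mem_span_singleton]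
      refine ⟨φ x / φ z, ?_⟩
      by_contra hne
      have hx' : S x = x := by
        rw [LinearMap.mem_ker, LinearMap.sub_apply, Module.End.one_apply, sub_eq_zero] at hx
        exact hx
      apply hcon (x - (φ x / φ z) • z)
      · intro h0; apply hne; exact (sub_eq_zero.1 h0).symm
      · rw [map_sub, map_smul, hx', hz']
      · rw [map_sub, map_smul, smul_eq_mul, div_mul_cancel₀ _ hφz, sub_self]
    have h2 := Submodule.finrank_mono h1
    have h3 := finrank_sup_span_le (⊥ : Submodule F V) z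
    rw [finrank_bot] at h3
    omega
  have hfix : schur S φ v hSv ⟨w, LinearMap.mem_ker.2 hwφ⟩ = ⟨w, LinearMap.mem_ker.2 hwφ⟩ := by
    apply Subtype.ext
    rw [coe_schur]
    simp only [hwZ, hwφ, zero_smul, sub_zero]
  intro a
  by_cases ha : a = 1
  · by_contra hcon
    push Not at hcon
    have h2 : schur S φ v hSv - 1 = 0 := by
      apply LinearMap.ext
      intro w
      rw [LinearMap.sub_apply, hcon w, ha, one_smul, Module.End.one_apply, LinearMap.zero_apply,
        sub_self]
    rw [h2, LinearMap.range_zero, finrank_bot] at hrk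
    omega
  · refine ⟨⟨w, LinearMap.mem_ker.2 hwφ⟩, ?_⟩
    rw [hfix]
    intro h
    apply ha
    have h1 : w = a • w := congrArg Subtype.val h
    have h2 : (1 - a) • w = 0 := by rw [sub_smul, one_smul, ← h1, sub_self]
    rcases smul_eq_zero.1 h2 with h3 | h3
    · exact (sub_eq_zero.1 h3).symm
    · exact absurd h3 hw0

end Cfsg.Agent.H141.Ore
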