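import Cfsg.Agent.H141.Ore.BaseTwo

/-!
# Direct sums, transvections, rank two (helper141, S2444)
-/

set_option autoImplicit false
set_option linter.unusedSectionVars false

namespace Cfsg.Agent.H141.Ore

open Module Polynomial

universe u w

section Transfer

variable {F : Type*} [Field F] {V W : Type*} [AddCommGroup V] [Module F V] [AddCommGroup W]
  [Module F W]

theorem IsComm.congr (e : V ≃ₗ[F] W) (S : Module.End F V) (T : Module.End F W)
    (h : ∀ x, T (e x) = e (S x)) (hS : IsComm S) : IsComm T := by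
  obtain ⟨X, D, hX, hD, hXD⟩ := hS
  refine ⟨(e.symm.trans X).trans e, (e.symm.trans D).trans e, ?_, ?_, ?_⟩
  · have : (((e.symm.trans X).trans e : W ≃ₗ[F] W) : W →ₗ[F] W) =
        (e : V →ₗ[F] W) ∘ₗ (X : V →ₗ[F] V) ∘ₗ (e.symm : W →ₗ[F] V) := rfl
    rw [this, LinearMap.det_conj, hX]
  · have : (((e.symm.trans D).trans e : W ≃ₗ[F] W) : W →ₗ[F] W) =
        (e : V →ₗ[F] W) ∘ₗ (D : V →ₗ[F] V) ∘ₗ (e.symm : W →ₗ[F] V) := rfl
    rw [this, LinearMap.det_conj, hD]
  · intro y
    obtain ⟨x, rfl⟩ := e.surjective y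
    rw [h, hXD]
    simp

theorem IsComm.prod_id [FiniteDimensional F V] [FiniteDimensional F W] (S : Module.End F V)
    (hS : IsComm S) : IsComm (S.prodMap (LinearMap.id : W →ₗ[F] W)) := by
  obtain ⟨X, D, hX, hD, hXD⟩ := hS
  refine ⟨X.prodCongr (LinearEquiv.refl F W), D.prodCongr (LinearEquiv.refl F W), ?_, ?_, ?_⟩
  · have : ((X.prodCongr (LinearEquiv.refl F W) : (V × W) ≃ₗ[F] (V × W)) : (V × W) →ₗ[F] (V × W)) =
        (X : V →ₗ[F] V).prodMap LinearMap.id := rfl
    rw [this, LinearMap.det_prodMap, hX, LinearMap.det_id, mul_one]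
  · have : ((D.prodCongr (LinearEquiv.refl F W) : (V × W) ≃ₗ[F] (V × W)) : (V × W) →ₗ[F] (V × W)) =
        (D : V →ₗ[F] V).prodMap LinearMap.id := rfl
    rw [this, LinearMap.det_prodMap, hD, LinearMap.det_id, mul_one]
  · rintro ⟨x, y⟩
    simp [hXD]

theorem IsComm.of_isCompl [FiniteDimensional F V] (S : Module.End F V) (V₁ V₂ : Submodule F V)
    (h : IsCompl V₁ V₂) (h₁ : ∀ x ∈ V₁, S x ∈ V₁) (h₂ : ∀ x ∈ V₂, S x = x)
    (hc : IsComm (S.restrict h₁)) : IsComm S := by
  refine IsComm.congr (Submodule.prodEquivOfIsCompl V₁ V₂ h) _ S ?_ (IsComm.prod_id (W := V₂) _ hc)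
  rintro ⟨x, y⟩
  simp only [Submodule.coe_prodEquivOfIsCompl', map_add, LinearMap.prodMap_apply,
    LinearMap.id_apply, LinearMap.coe_restrict_apply]
  rw [h₂ y y.2]

theorem isComm_one [FiniteDimensional F V] (S : Module.End F V) (h : ∀ x, S x = x) : IsComm S :=
  ⟨LinearEquiv.refl F V, LinearEquiv.refl F V, LinearMap.det_id, LinearMap.det_id,
    fun x => by rw [h]; rfl⟩

/-- transvections -/
theorem isComm_transvection [FiniteDimensional F V] (hk : 3 ≤ finrank F V) (S : Module.End F V)
    (a : V) (g : V →ₗ[F] F) (hga : g a = 0) (hS : ∀ x, S x = x + g x • a) : IsComm S := by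
  obtain ⟨b, hgb, hba⟩ : ∃ b, g b = 0 ∧ b ∉ Submodule.span F {a} := by
    by_contra hcon
    push Not at hcon
    have h1 : LinearMap.ker g ≤ ⊥ ⊔ Submodule.span F {a} := by
      rw [bot_sup_eq]; exact fun y hy => hcon y hy
    have h2 := Submodule.finrank_mono h1
    have h3 := finrank_sup_span_le (⊥ : Submodule F V) a
    rw [finrank_bot] at h3
    have h4 := LinearMap.finrank_range_add_finrank_ker g
    have h5 := Submodule.finrank_le (LinearMap.range g)
    rw [finrank_self] at h5
    omega
  obtain ⟨f₀, hf₀, hf₀a⟩ := Submodule.exists_le_ker_of_notMem hba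
  have hf₀a' : f₀ a = 0 := hf₀a (Submodule.mem_span_singleton_self a)
  set f : V →ₗ[F] F := (f₀ b)⁻¹ • f₀ with hf
  have hfa : f a = 0 := by simp [hf, hf₀a']
  have hfb : f b = 1 := by simp [hf, hf₀]
  refine ⟨LinearEquiv.transvection hfa, LinearEquiv.transvection hgb, ?_, ?_, ?_⟩
  · rw [LinearEquiv.transvection.coe_toLinearMap, LinearMap.transvection.det, hfa, add_zero]
  · rw [LinearEquiv.transvection.coe_toLinearMap, LinearMap.transvection.det, hgb, add_zero]
  · intro x
    obtain ⟨y, rfl⟩ := (LinearEquiv.transvection hgb).surjective x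
    obtain ⟨z, rfl⟩ := (LinearEquiv.transvection hfa).surjective y
    rw [LinearEquiv.symm_apply_apply, LinearEquiv.symm_apply_apply]
    simp only [LinearEquiv.transvection.apply]
    rw [hS]
    simp only [map_add, map_smul, smul_eq_mul, hga, hgb, hfb]
    module

end Transfer

section RankTwo

variable {F : Type u} [Field F] [Finite F]

theorem exists_good (F : Type u) [Field F] [Finite F] : ∃ e : F[X], Good e ∧ BaseHyp.{u, w} F e := by
  have hq := two_le_card (F := F)
  rcases Nat.lt_or_ge (Nat.card F) 3 with h | h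
  · exact ⟨_, good_two (by omega), base_two (by omega)⟩
  · obtain ⟨τ, c, hτ, hc0, hc1, hx⟩ := exists_quad h
    exact ⟨_, good_cubic τ c hc0 hc1 hx, base_cubic h τ c hτ hx⟩

/-- rank two in dimension at least four -/
theorem isComm_rank2' (n : ℕ) : ∀ (V : Type w) [AddCommGroup V] [Module F V] [FiniteDimensional F V]
    (S : Module.End F V), finrank F V = n + 4 → LinearMap.det S = 1 →
    finrank F (LinearMap.range (S - 1)) = 2 → IsComm S := by
  induction n with
  | zero =>
    intro V _ _ _ S hk hdet hR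
    obtain ⟨e, he, hb⟩ := exists_good.{u, w} F
    exact isComm_rank2 e he hb V S (by omega) hdet hR
  | succ n ih =>
    intro V _ _ _ S hk hdet hR
    have h1 := LinearMap.finrank_range_add_finrank_ker (S - 1)
    obtain ⟨z, hz, hzI⟩ : ∃ z ∈ LinearMap.ker (S - 1), z ∉ LinearMap.range (S - 1) := by
      by_contra hcon
      push Not at hcon
      have h2 : LinearMap.ker (S - 1) ≤ LinearMap.range (S - 1) := hcon
      have h3 := Submodule.finrank_mono h2
      omega
    have hz' : S z = z := by
      rw [LinearMap.mem_ker, LinearMap.sub_apply, Module.End.one_apply, sub_eq_zero] at hz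
      exact hz
    have hz0 : z ≠ 0 := by
      rintro rfl
      exact hzI (zero_mem _)
    have hdis : Disjoint (LinearMap.range (S - 1)) (Submodule.span F {z}) := by
      rw [Submodule.disjoint_span_singleton' hz0]
      exact hzI
    obtain ⟨V₁, hV₁, hcompl⟩ := hdis.exists_isCompl
    have hinv : ∀ x ∈ V₁, S x ∈ V₁ := by
      intro x hx
      have : S x = (S - 1) x + x := by simp
      rw [this]
      exact add_mem (hV₁ (LinearMap.mem_range_self _ x)) hx
    have hid : ∀ x ∈ Submodule.span F {z}, S x = x := by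
      intro x hx
      rw [Submodule.mem_span_singleton] at hx
      obtain ⟨a, rfl⟩ := hx
      rw [map_smul, hz']
    have hdim : finrank F V₁ = n + 4 := by
      have := Submodule.finrank_add_eq_of_isCompl hcompl
      rw [finrank_span_singleton hz0] at this
      omega
    refine IsComm.of_isCompl S V₁ _ hcompl hinv hid (ih V₁ _ hdim ?_ ?_)
    · have he : V₁ ≤ V₁.comap S := hinv
      have h2 := LinearMap.det_eq_det_mul_det V₁ S he
      have h3 : V₁.mapQ V₁ S he = LinearMap.id := by
        ext x
        simp only [LinearMap.comp_apply, Submodule.mapQ_apply, Submodule.mkQ_apply,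
          LinearMap.id_apply]
        rw [Submodule.Quotient.eq]
        have : S x - x = (S - 1) x := by simp
        rw [this]
        exact hV₁ (LinearMap.mem_range_self _ x)
      rw [h3, LinearMap.det_id, mul_one, hdet] at h2
      exact h2.symm
    · have : (LinearMap.range (S.restrict hinv - 1)).map V₁.subtype = LinearMap.range (S - 1) := by
        apply le_antisymm
        · rintro _ ⟨_, ⟨x, rfl⟩, rfl⟩
          exact ⟨x, by simp⟩
        · rintro _ ⟨x, rfl⟩
          obtain ⟨y, hy, t, ht, rfl⟩ : ∃ y ∈ V₁, ∃ t ∈ Submodule.span F {z}, y + t = x := by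
            have : x ∈ V₁ ⊔ Submodule.span F {z} := by rw [hcompl.sup_eq_top]; trivial
            exact Submodule.mem_sup.1 this
          refine ⟨(S.restrict hinv - 1) ⟨y, hy⟩, LinearMap.mem_range_self _ _, ?_⟩
          simp [hid t ht]
      rw [← hR, ← Submodule.finrank_map_subtype_eq V₁, this]

end RankTwo

end Cfsg.Agent.H141.Ore
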