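import Cfsg.Agent.H141.Ore.Dicho

/-!
# The two-dimensional factorisation (helper141, S2444)
-/

set_option autoImplicit false
set_option linter.unusedSectionVars false

namespace Cfsg.Agent.H141.Ore

open Module Polynomial

section Field

variable {F : Type*} [Field F] [Finite F]

theorem exists_sq_add_mul_sq (a c : F) (ha : a ≠ 0) : ∃ x y : F, x ^ 2 + a * y ^ 2 = c := by
  classical
  have : Fintype F := Fintype.ofFinite F
  by_cases h2 : ringChar F = 2
  · obtain ⟨x, hx⟩ := FiniteField.isSquare_of_char_two h2 c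
    exact ⟨x, 0, by rw [hx]; ring⟩
  · have hodd : Fintype.card F % 2 = 1 := FiniteField.odd_card_of_char_ne_two h2
    have hf : degree (X ^ 2 - C c : F[X]) = 2 := degree_X_pow_sub_C (by norm_num) c
    have hg : degree (C a * X ^ 2 : F[X]) = 2 := degree_C_mul_X_pow 2 ha
    obtain ⟨x, y, hxy⟩ := FiniteField.exists_root_sum_quadratic hf hg hodd
    refine ⟨x, y, ?_⟩
    simp only [eval_sub, eval_pow, eval_X, eval_C, eval_mul] at hxy
    linear_combination hxy

theorem ringChar_eq_two (h2 : (2 : F) = 0) : ringChar F = 2 := by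
  have h3 : ringChar F ∣ 2 := ringChar.dvd (by exact_mod_cast h2)
  rcases (Nat.dvd_prime Nat.prime_two).1 h3 with h | h
  · exact absurd h (CharP.ringChar_ne_one)
  · exact h

theorem exists_xz (s τ c : F) (hs : s ≠ 2) (hτ : τ ≠ 0) :
    ∃ x z : F, x ^ 2 + s * x * z + z ^ 2 - τ * x + τ * (1 - s) * z + c = 0 := by
  by_cases h2s : 2 + s = 0
  · have hs' : s = -2 := by linear_combination h2s
    have h2 : (2 : F) ≠ 0 := by
      intro h
      apply hs
      rw [hs', h, neg_zero]
    subst hs'
    refine ⟨-c / (2 * τ), -c / (2 * τ), ?_⟩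
    field_simp
    ring
  · obtain ⟨k, hk⟩ : ∃ k, τ = k * (2 + s) := ⟨τ / (2 + s), (div_mul_cancel₀ _ h2s).symm⟩
    have key : ∃ u w : F, u ^ 2 + s * u * w + w ^ 2 = k ^ 2 * (2 + s) - c := by
      by_cases h2 : (2 : F) = 0
      · obtain ⟨y, hy⟩ := FiniteField.isSquare_of_char_two (ringChar_eq_two h2) (k ^ 2 * (2 + s) - c)
        exact ⟨y, 0, by rw [hy]; ring⟩
      · obtain ⟨h, hh⟩ : ∃ h, s = 2 * h := ⟨s / 2, by field_simp⟩
        have h4 : 1 - h ^ 2 ≠ 0 := by
          intro h0
          have h5 : (1 - h) * (1 + h) = 0 := by linear_combination h0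
          rcases mul_eq_zero.1 h5 with h6 | h6
          · exact hs (by linear_combination hh - 2 * h6)
          · exact h2s (by linear_combination hh + 2 * h6)
        obtain ⟨u, w, huw⟩ := exists_sq_add_mul_sq (1 - h ^ 2) (k ^ 2 * (2 + s) - c) h4
        refine ⟨u - h * w, w, ?_⟩
        rw [← huw, hh]
        ring
    obtain ⟨u, w, huw⟩ := key
    refine ⟨u + k * (1 + s), w - k, ?_⟩
    rw [hk]
    linear_combination huw

end Field

section Lin

variable {F : Type*} [Field F] {W : Type*} [AddCommGroup W] [Module F W] [FiniteDimensional F W]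

theorem exists_noneigen (T : Module.End F W) (hns : NonScalar T) :
    ∃ w, LinearIndependent F ![w, T w] := by
  by_contra hcon
  push Not at hcon
  have h : ∀ w, w ≠ 0 → ∃ a : F, a • w = T w := by
    intro w hw
    have := hcon w
    rw [LinearIndependent.pair_iff' hw] at this
    push Not at this
    exact this
  obtain ⟨x, hx⟩ := hns 0
  have hx0 : x ≠ 0 := by
    rintro rfl
    simp at hx
  obtain ⟨a, ha⟩ := h x hx0
  obtain ⟨y, hy⟩ := hns a
  have hy0 : y ≠ 0 := by
    rintro rfl
    simp at hy
  obtain ⟨b, hb⟩ := h y hy0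
  by_cases hxy : x + y = 0
  · have : y = -x := by rw [← sub_eq_zero, sub_neg_eq_add, add_comm]; exact hxy
    apply hy
    rw [this, map_neg, ← ha, smul_neg]
  · obtain ⟨c, hc⟩ := h _ hxy
    rw [map_add, ← ha, ← hb, smul_add] at hc
    have h1 : (c - a) • x = (b - c) • y := by
      rw [sub_smul, sub_smul, sub_eq_sub_iff_add_eq_add, hc, add_comm]
    by_cases hbc : b - c = 0
    · rw [hbc, zero_smul, smul_eq_zero] at h1
      rcases h1 with h1 | h1
      · apply hy
        rw [← hb]
        congr 1
        linear_combination hbc + h1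
      · exact hx0 h1
    · apply hy
      have h2 : y = ((b - c)⁻¹ * (c - a)) • x := by
        rw [mul_smul, h1, smul_smul, inv_mul_cancel₀ hbc, one_smul]
      rw [h2, map_smul, ← ha, smul_smul, smul_smul, mul_comm]

open Matrix in
theorem exists_pair_two [Finite F] (τ c : F) (hτ : τ ≠ 0) (T : Module.End F W)
    (hk : finrank F W = 2) (hdet : LinearMap.det T = 1) (hns : NonScalar T)
    (htr : LinearMap.trace F W T ≠ 2) :
    ∃ B D : Module.End F W, (∀ x, T (D x) = B x) ∧
      aeval B (X ^ 2 - C τ * X + C c) = 0 ∧ aeval D (X ^ 2 - C τ * X + C c) = 0 := by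
  obtain ⟨w, hw⟩ := exists_noneigen T hns
  let b : Basis (Fin 2) F W := basisOfLinearIndependentOfCardEqFinrank hw (by rw [hk]; rfl)
  have hb0 : b 0 = w := by simp [b]
  have hb1 : b 1 = T w := by simp [b]
  set s := LinearMap.trace F W T with hs
  have hTm : LinearMap.toMatrix b b T = !![0, -1; 1, s] := by
    have e00 : LinearMap.toMatrix b b T 0 0 = 0 := by
      rw [LinearMap.toMatrix_apply, hb0, ← hb1]; simp
    have e10 : LinearMap.toMatrix b b T 1 0 = 1 := by
      rw [LinearMap.toMatrix_apply, hb0, ← hb1]; simp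
    have e1 := LinearMap.trace_eq_matrix_trace F b T
    rw [Matrix.trace_fin_two, e00, zero_add, ← hs] at e1
    have e2 := LinearMap.det_toMatrix b T
    rw [Matrix.det_fin_two, e00, e10, hdet] at e2
    ext i j
    fin_cases i <;> fin_cases j
    · exact e00
    · simp only [Fin.zero_eta, Fin.mk_one, of_apply, cons_val', cons_val_one, cons_val_zero]
      linear_combination -e2
    · exact e10
    · exact e1.symm
  obtain ⟨x, z, hxz⟩ := exists_xz s τ c htr hτ
  set M : Matrix (Fin 2) (Fin 2) F := !![x, z + τ - s * (τ - x); z, τ - x] with hM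
  set N : Matrix (Fin 2) (Fin 2) F := !![0, -1; 1, s] * M with hN
  have hchM : M.charpoly = X ^ 2 - C τ * X + C c := by
    rw [Matrix.charpoly_fin_two]
    have h1 : M.trace = τ := by rw [Matrix.trace_fin_two, hM]; simp
    have h2 : M.det = c := by
      rw [Matrix.det_fin_two, hM]
      simp only [of_apply, cons_val', cons_val_zero, cons_val_one, cons_val_fin_one]
      linear_combination -hxz
    rw [h1, h2]
  have hchN : N.charpoly = X ^ 2 - C τ * X + C c := by
    rw [Matrix.charpoly_fin_two]
    have h1 : N.trace = τ := by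
      rw [hN, hM, Matrix.mul_fin_two, Matrix.trace_fin_two]
      simp only [of_apply, cons_val', cons_val_zero, cons_val_one, cons_val_fin_one]
      ring
    have h2 : N.det = c := by
      rw [hN, Matrix.det_mul, Matrix.det_fin_two, Matrix.det_fin_two, hM]
      simp only [of_apply, cons_val', cons_val_zero, cons_val_one, cons_val_fin_one]
      linear_combination -hxz
    rw [h1, h2]
  have hT : T = Matrix.toLin b b !![0, -1; 1, s] := by
    rw [← hTm, Matrix.toLin_toMatrix]
  refine ⟨Matrix.toLinAlgEquiv b N, Matrix.toLinAlgEquiv b M, ?_, ?_, ?_⟩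
  · intro y
    have : Matrix.toLinAlgEquiv b N = T * Matrix.toLinAlgEquiv b M := by
      rw [hN, map_mul, hT]; rfl
    rw [this]; rfl
  · rw [← hchN]
    have := Polynomial.aeval_algHom_apply (Matrix.toLinAlgEquiv b).toAlgHom N N.charpoly
    rw [Matrix.aeval_self_charpoly, map_zero] at this
    exact this
  · rw [← hchM]
    have := Polynomial.aeval_algHom_apply (Matrix.toLinAlgEquiv b).toAlgHom M M.charpoly
    rw [Matrix.aeval_self_charpoly, map_zero] at this
    exact this

end Lin

end Cfsg.Agent.H141.Ore
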